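import Cfsg.Agent.Lib.CentFour.Counts
import Cfsg.Agent.Lib.ClassCount.CharSum
import Cfsg.Agent.Lib.BrauerPairs.Basic
import Cfsg.Agent.S4481
import Cfsg.Agent.Lib.Blocks.Induced

/-!
# The four characters not vanishing on the self-centralising element of order four
-/

set_option autoImplicit false

namespace Cfsg.Agent.CentFour

open Cfsg Subgroup

open scoped ComplexConjugate

set_option linter.style.haveILetI false

variable {G : Type*} [Group G] [Finite G]

/-- The degree of an irreducible character as an integer. -/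
noncomputable def deg (χ : IrrCharacter G) : ℤ := (charDegree (χ : G → ℂ) : ℤ)

theorem apply_one (χ : IrrCharacter G) : (χ : G → ℂ) 1 = (deg χ : ℂ) := by
  rw [ClassCount.apply_one_eq_charDegree, deg, Int.cast_natCast]

theorem deg_pos (χ : IrrCharacter G) : 0 < deg χ := by
  have := ClassCount.charDegree_pos χ
  rw [deg]; omega

/-- The signed data of the three non-trivial characters. -/
structure Chars (v : G) (A B C : IrrCharacter G) (a b c : ℤ) (dA dB dC : ℤ) : Prop where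
  sA : dA = 1 ∨ dA = -1
  sB : dB = 1 ∨ dB = -1
  sC : dC = 1 ∨ dC = -1
  nA : A ≠ BrauerPairs.oneIrr G
  nB : B ≠ BrauerPairs.oneIrr G
  nC : C ≠ BrauerPairs.oneIrr G
  AB : A ≠ B
  AC : A ≠ C
  BC : B ≠ C
  ea : a = dA * deg A
  eb : b = dB * deg B
  ec : c = dC * deg C
  Av : (A : G → ℂ) v = dA
  Bv : (B : G → ℂ) v = dB
  Cv : (C : G → ℂ) v = dC
  Az : (A : G → ℂ) (v * v) = dA
  Bz : (B : G → ℂ) (v * v) = -dB
  Cz : (C : G → ℂ) (v * v) = -dC
  sum : 1 + a + b + c = 0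
  blk : ∃ M : Ideal AlgInt, IsPModular 2 M ∧ A ∈ principalBlock M G
  supp : ∀ χ : IrrCharacter G, (χ : G → ℂ) v ≠ 0 →
    χ = BrauerPairs.oneIrr G ∨ χ = A ∨ χ = B ∨ χ = C

theorem Chars.swap {v : G} {A B C : IrrCharacter G} {a b c dA dB dC : ℤ}
    (hc : Chars v A B C a b c dA dB dC) : Chars v A C B a c b dA dC dB :=
  { sA := hc.sA, sB := hc.sC, sC := hc.sB, nA := hc.nA, nB := hc.nC, nC := hc.nB,
    AB := hc.AC, AC := hc.AB, BC := hc.BC.symm, ea := hc.ea, eb := hc.ec, ec := hc.eb,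
    Av := hc.Av, Bv := hc.Cv, Cv := hc.Bv, Az := hc.Az, Bz := hc.Cz, Cz := hc.Bz,
    sum := by have := hc.sum; omega
    blk := hc.blk
    supp := fun χ hχ => by
      rcases hc.supp χ hχ with e | e | e | e <;> simp [e] }

namespace Hyp

variable {P : Sylow 2 G} {v τ : G} (h : Hyp P v τ)
include h

theorem card_cent_v : Nat.card (centralizer ({v} : Set G)) = 4 := by
  rw [← h.v4, ← Nat.card_zpowers]
  refine Nat.card_congr (Equiv.subtypeEquivRight fun g => ?_)
  exact ⟨fun hg => h.cent g (mem_centralizer_singleton_iff.mp hg), fun hg => by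
    obtain ⟨k, rfl⟩ := mem_zpowers_iff.mp hg
    exact mem_centralizer_singleton_iff.mpr ((Commute.refl v).zpow_left k).eq⟩

theorem exists_chars : ∃ (A B C : IrrCharacter G) (a b c dA dB dC : ℤ),
    Chars v A B C a b c dA dB dC := by
  classical
  haveI := Fintype.ofFinite (IrrCharacter G)
  obtain ⟨M, hM⟩ := Blocks.exists_isPModular Nat.prime_two
  obtain ⟨ζ, hζ⟩ : ∃ ζ : ℂ, IsPrimitiveRoot ζ (2 ^ (3 - 1)) :=
    ⟨_, Complex.isPrimitiveRoot_exp (2 ^ (3 - 1)) (by norm_num)⟩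
  obtain ⟨-, A, B, C, X, dA, dB, dC, hA, hB, hC, -, nA, nB, nC, hAB, hAC, hBC, -, hblk, hvals, hodd⟩ :=
    Cfsg.Agent.S4481.result M hM 3 le_rfl P (by simpa using h.iso) v h.vP (by rw [h.v4]; rfl) ζ hζ
  obtain ⟨a1, b1, c1, -⟩ := hvals 1 one_pos (by norm_num)
  obtain ⟨a2, b2, c2, -⟩ := hvals 2 two_pos (by norm_num)
  rw [pow_one] at a1 b1 c1
  rw [pow_two] at a2 b2 c2
  norm_num at b1 c1 b2 c2
  have hrel := (hodd 1 (by rw [orderOf_one]; exact odd_one) ⟨0, by norm_num⟩).1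
  rw [apply_one, apply_one, apply_one] at hrel
  have nA' : A ≠ BrauerPairs.oneIrr G := fun e => nA (by rw [e]; rfl)
  have nB' : B ≠ BrauerPairs.oneIrr G := fun e => nB (by rw [e]; rfl)
  have nC' : C ≠ BrauerPairs.oneIrr G := fun e => nC (by rw [e]; rfl)
  refine ⟨A, B, C, _, _, _, dA, dB, dC, hA, hB, hC, nA', nB', nC', hAB, hAC, hBC, rfl, rfl, rfl,
    a1, b1, c1, a2, b2, c2, ?_, ⟨M, hM, hblk ▸ Or.inr (Or.inl rfl)⟩, fun χ hχ => ?_⟩
  · have hrel' : ((1 + dA * deg A : ℤ) : ℂ) = ((-(dB * deg B) - dC * deg C : ℤ) : ℂ) := by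
      push_cast; linear_combination hrel
    have := Int.cast_injective hrel'
    omega
  · by_contra hcon
    push Not at hcon
    obtain ⟨c0, cA, cB, cC⟩ := hcon
    have h4 := Char.column_orth v v
    rw [if_pos (IsConj.refl v), h.card_cent_v] at h4
    set S : Finset (IrrCharacter G) := {BrauerPairs.oneIrr G, A, B, C} with hS
    have hnn : ∀ φ : IrrCharacter G,
        (φ : G → ℂ) v * conj ((φ : G → ℂ) v) = ((Complex.normSq ((φ : G → ℂ) v) : ℝ) : ℂ) :=
      fun φ => Complex.mul_conj _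
    simp only [hnn, ← Complex.ofReal_sum] at h4
    have h4' : ∑ φ : IrrCharacter G, Complex.normSq ((φ : G → ℂ) v) = 4 := by exact_mod_cast h4
    have hχS : χ ∉ S := by simp [hS, c0, cA, cB, cC]
    have hle : ∑ φ ∈ insert χ S, Complex.normSq ((φ : G → ℂ) v) ≤ 4 := by
      rw [← h4']
      exact Finset.sum_le_sum_of_subset_of_nonneg (Finset.subset_univ _)
        fun φ _ _ => Complex.normSq_nonneg _
    rw [Finset.sum_insert hχS, hS, Finset.sum_insert (by simp [nA'.symm, nB'.symm, nC'.symm]),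
      Finset.sum_insert (by simp [hAB, hAC]), Finset.sum_insert (by simp [hBC]),
      Finset.sum_singleton, a1, b1, c1] at hle
    have hone : ((BrauerPairs.oneIrr G : IrrCharacter G) : G → ℂ) v = 1 := rfl
    have hsq : ∀ d : ℤ, d = 1 ∨ d = -1 → Complex.normSq (d : ℂ) = 1 := by
      rintro d (rfl | rfl) <;> simp
    rw [hone, map_one, hsq _ hA, hsq _ hB, hsq _ hC] at hle
    have := Complex.normSq_pos.2 hχ
    linarith

theorem v_isConj_inv : IsConj v⁻¹ v := isConj_iff.mpr ⟨τ, by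
  rw [← h.τv, h.τ_inv, show τ * (τ * v * τ) * τ = (τ * τ) * v * (τ * τ) by group, h.τ_sq, one_mul,
    mul_one]⟩

/-- The class algebra constant at `v`. -/
theorem fibre_formula {A B C : IrrCharacter G} {a b c dA dB dC : ℤ}
    (hc : Chars v A B C a b c dA dB dC) (x x' : G) :
    (Nat.card (centralizer ({x} : Set G)) : ℂ) * Nat.card (centralizer ({x'} : Set G)) *
      ClassCount.fibreCount x x' v =
    (Nat.card G : ℂ) * (1 + (A : G → ℂ) x * (A : G → ℂ) x' / a +
      (B : G → ℂ) x * (B : G → ℂ) x' / b + (C : G → ℂ) x * (C : G → ℂ) x' / c) := by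
  classical
  haveI := Fintype.ofFinite (IrrCharacter G)
  have hf := ClassCount.card_mul_fibreCount x x' v
  have hv : ∀ χ : IrrCharacter G, (χ : G → ℂ) v⁻¹ = (χ : G → ℂ) v := fun χ =>
    (ClassCount.class_apply (Char.IsIrrCharacter.isClassFunction χ.2) h.v_isConj_inv).symm
  simp only [hv] at hf
  rw [← Finset.sum_subset (Finset.subset_univ {BrauerPairs.oneIrr G, A, B, C}) fun χ _ hχ => by
    by_cases h0 : (χ : G → ℂ) v = 0
    · rw [h0, mul_zero]
    · exact absurd (by simpa using hc.supp χ h0) hχ,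
    Finset.sum_insert (by simp [hc.nA.symm, hc.nB.symm, hc.nC.symm]),
    Finset.sum_insert (by simp [hc.AB, hc.AC]), Finset.sum_insert (by simp [hc.BC]),
    Finset.sum_singleton, hc.Av, hc.Bv, hc.Cv] at hf
  have hone : ∀ g, ((BrauerPairs.oneIrr G : IrrCharacter G) : G → ℂ) g = 1 := fun _ => rfl
  simp only [ClassCount.omega, hone, apply_one] at hf
  have hx := congrArg (Nat.cast : ℕ → ℂ) (ClassCount.card_class_mul_card_centralizer x)
  have hx' := congrArg (Nat.cast : ℕ → ℂ) (ClassCount.card_class_mul_card_centralizer x')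
  push_cast at hx hx'
  have hdd : ∀ d : ℤ, d = 1 ∨ d = -1 → (d : ℂ) * d = 1 := by rintro d (rfl | rfl) <;> simp
  have hG : (Nat.card G : ℂ) ≠ 0 := Nat.cast_ne_zero.2 Nat.card_pos.ne'
  have ne0 : ∀ χ : IrrCharacter G, (deg χ : ℂ) ≠ 0 := fun χ => Int.cast_ne_zero.2 (deg_pos χ).ne'
  have hd0 : ∀ d : ℤ, d = 1 ∨ d = -1 → (d : ℂ) ≠ 0 := fun d hd h0 => by simpa [h0] using hdd d hd
  have key : ∀ (χ : IrrCharacter G) (d e : ℤ), d = 1 ∨ d = -1 → e = d * deg χ →
      (deg χ : ℂ) * ((Nat.card {g // IsConj x g} : ℂ) * (χ : G → ℂ) x / deg χ) *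
        ((Nat.card {g // IsConj x' g} : ℂ) * (χ : G → ℂ) x' / deg χ) * d =
      (Nat.card {g // IsConj x g} : ℂ) * Nat.card {g // IsConj x' g} *
        ((χ : G → ℂ) x * (χ : G → ℂ) x' / e) := by
    intro χ d e hd he
    subst he
    push_cast
    have := ne0 χ
    have := hd0 d hd
    field_simp
    linear_combination ((Nat.card {g // IsConj x g} : ℂ) * (χ : G → ℂ) x *
      (Nat.card {g // IsConj x' g} : ℂ) * (χ : G → ℂ) x') * hdd d hd
  rw [key A dA a hc.sA hc.ea, key B dB b hc.sB hc.eb, key C dC c hc.sC hc.ec] at hf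
  simp only [mul_one, one_mul, div_one] at hf
  refine mul_left_cancel₀ hG ?_
  linear_combination (Nat.card (centralizer ({x} : Set G)) : ℂ) *
    (Nat.card (centralizer ({x'} : Set G)) : ℂ) * hf +
    (1 + (A : G → ℂ) x * (A : G → ℂ) x' / a + (B : G → ℂ) x * (B : G → ℂ) x' / b +
      (C : G → ℂ) x * (C : G → ℂ) x' / c) *
      ((Nat.card {g // IsConj x' g} : ℂ) * (Nat.card (centralizer ({x'} : Set G)) : ℂ) * hx +
        (Nat.card G : ℂ) * hx')

/-- The congruence from the restriction to the Sylow subgroup. -/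
theorem congr_eight (χ : IrrCharacter G) :
    ∃ m : ℕ, (χ : G → ℂ) 1 + (χ : G → ℂ) (v * v) + 2 * (χ : G → ℂ) v +
      2 * (χ : G → ℂ) τ + 2 * (χ : G → ℂ) (v * τ) = 8 * m := by
  classical
  haveI := Fintype.ofFinite (P : Subgroup G)
  obtain ⟨m, hm⟩ := ClassCount.exists_sum_subgroup_eq (P : Subgroup G)
    (Char.IsIrrCharacter.isCharacter χ.2)
  refine ⟨m, ?_⟩
  let L : Fin 8 → G := ![1, v, v * v, v * v * v, τ, v * v * τ, v * τ, v * v * (v * τ)]
  have hL : ∀ i, L i ∈ (P : Subgroup G) := by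
    intro i
    fin_cases i
    exacts [one_mem _, h.vP, h.zP, mul_mem h.zP h.vP, h.τP, mul_mem h.zP h.τP,
      mul_mem h.vP h.τP, mul_mem h.zP (mul_mem h.vP h.τP)]
  have hsurj : Function.Surjective (fun i => (⟨L i, hL i⟩ : (P : Subgroup G))) := by
    rintro ⟨p, hp⟩
    rcases h.mem_P_cases hp with e | e | e | e | e | e | e | e
    exacts [⟨0, Subtype.ext e.symm⟩, ⟨1, Subtype.ext e.symm⟩, ⟨2, Subtype.ext e.symm⟩,
      ⟨3, Subtype.ext e.symm⟩, ⟨4, Subtype.ext e.symm⟩, ⟨5, Subtype.ext e.symm⟩,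
      ⟨6, Subtype.ext e.symm⟩, ⟨7, Subtype.ext e.symm⟩]
  have hbij := (Nat.bijective_iff_surjective_and_card _).2 ⟨hsurj, by rw [h.card_P]; simp⟩
  rw [← Fintype.sum_bijective _ hbij (fun i => (χ : G → ℂ) (L i)) _ (fun _ => rfl), h.card_P] at hm
  simp only [Fin.sum_univ_eight, L] at hm
  have hcf := fun {x y : G} (hxy : IsConj x y) =>
    ClassCount.class_apply (Char.IsIrrCharacter.isClassFunction χ.2) hxy
  have hvτ : v * τ * v⁻¹ = v * v * τ := by
    calc v * τ * v⁻¹ = v * τ * (τ * v * τ) := by rw [h.τv]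
      _ = v * (τ * τ) * v * τ := by group
      _ = v * v * τ := by rw [h.τ_sq, mul_one]
  have e1 : (χ : G → ℂ) (v * v * v) = (χ : G → ℂ) v := by
    rw [← h.v_inv]; exact (hcf h.v_isConj_inv).symm
  have e2 : (χ : G → ℂ) (v * v * τ) = (χ : G → ℂ) τ := hcf (isConj_iff.mpr ⟨v, hvτ⟩)
  have e3 : (χ : G → ℂ) (v * v * (v * τ)) = (χ : G → ℂ) (v * τ) := by
    refine hcf (isConj_iff.mpr ⟨v, ?_⟩)
    rw [show v * (v * τ) * v⁻¹ = v * (v * τ * v⁻¹) by group, hvτ]
    group
  simp only [Matrix.cons_val, e1, e2, e3] at hm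
  push_cast at hm
  linear_combination hm

end Hyp

end Cfsg.Agent.CentFour
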