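import Cfsg.Agent.Lib.CentFour.Conj
import Cfsg.Agent.Lib.CentFour.Values
import Cfsg.Agent.S0213

/-!
# Groups with a subgroup of index two and two classes of involutions
-/

set_option autoImplicit false
set_option linter.unusedSectionVars false
set_option linter.style.haveILetI false

namespace Cfsg.Agent.CentFour

open Cfsg Subgroup

open scoped ComplexConjugate

variable {G : Type*} [Group G] [Finite G]

theorem card_eq_two_mul_inf {H L : Subgroup G} (hH : H.index = 2) {y : G} (hyL : y ∈ L)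
    (hy : y ∉ H) : Nat.card L = 2 * Nat.card (H ⊓ L : Subgroup G) := by
  haveI := normal_of_index_eq_two hH
  have h1 : H.relIndex L ∣ 2 := hH ▸ relIndex_dvd_index_of_normal H L
  have h2 : H.relIndex L = 2 := ((Nat.dvd_prime Nat.prime_two).1 h1).resolve_left
    fun e => hy (relIndex_eq_one.1 e hyL)
  have := relIndex_mul_relIndex (⊥ : Subgroup G) (H ⊓ L) L bot_le inf_le_right
  rw [relIndex_bot_left, relIndex_bot_left, inf_relIndex_right, h2] at this
  rw [← this, mul_comm]

/-- The sign character of a subgroup of index two. -/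
theorem exists_signHom {H : Subgroup G} (hH : H.index = 2) :
    ∃ l : G →* ℂ, (∀ g ∈ H, l g = 1) ∧ ∀ g ∉ H, l g = -1 := by
  classical
  refine ⟨{ toFun := fun g => if g ∈ H then 1 else -1
            map_one' := if_pos (one_mem _)
            map_mul' := fun a b => ?_ }, fun g hg => if_pos hg, fun g hg => if_neg hg⟩
  simp only [mul_mem_iff_of_index_two hH]
  by_cases ha : a ∈ H <;> by_cases hb : b ∈ H <;> simp [ha, hb]

theorem odd_of_not_four_dvd {n : ℕ} (h : ¬ 4 ∣ 2 * n) : Odd n := by
  rw [Nat.odd_iff]; omega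

/-- In a group of order twice an odd number the involutions are conjugate, and the product of
two of them has odd order. -/
theorem odd_orderOf_mul (h4 : ¬ 4 ∣ Nat.card G) {a b : G} (ha : orderOf a = 2) (hb : orderOf b = 2) :
    Odd (orderOf (a * b)) := by
  rcases Nat.even_or_odd (orderOf (a * b)) with he | ho
  · exfalso
    obtain ⟨z, hz, hza, -, hzm⟩ := Involution.exists_commuting_involution ha hb he
    have hne : a ≠ z := fun e => by
      by_cases hab : a = b
      · rw [hab, Involution.mul_self hb, orderOf_one] at he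
        exact absurd he (by decide)
      · exact Involution.not_mem_zpowers_mul ha hb hab (e ▸ hzm)
    obtain ⟨e, -⟩ := Involution.card_closure_pair ha hz hne
    have h2 : orderOf (a * z) = 2 := by
      refine Involution.orderOf_of_sq ?_ fun e1 => hne ?_
      · rw [show a * z * (a * z) = a * (z * a) * z by group, hza.eq, ← mul_assoc,
          Involution.mul_self ha, one_mul, Involution.mul_self hz]
      · rw [eq_inv_of_mul_eq_one_left e1, Involution.inv_eq hz]
    have hc := Nat.card_congr e.toEquiv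
    rw [DihedralGroup.nat_card, h2] at hc
    exact h4 (by rw [show 4 = 2 * 2 from rfl, hc]; exact card_subgroup_dvd_card _)
  · exact ho

theorem mul_sq_one {a y : G} (ha : a * a = 1) (hy : y * y = 1) (hc : Commute a y) :
    a * y * (a * y) = 1 := by rw [hc.symm.mul_mul_mul_comm, ha, hy, one_mul]

namespace Hyp

variable {P : Sylow 2 G} {v τ : G} (h : Hyp P v τ)
include h

theorem K_symm_symm : K v (v * (v * τ)) = K v τ := by
  ext k
  rw [h.mem_K, h.symm.symm.mem_K]
  refine and_congr_right fun hk => ?_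
  rw [← mul_assoc v v τ, h.conj_z_mul h.τP hk]

theorem not_eight_dvd (hnc : ¬ IsConj (v * v) (v * τ)) :
    ¬ 8 ∣ Nat.card (centralizer ({v * τ} : Set G)) := by
  haveI := Fact.mk Nat.prime_two
  intro h8
  obtain ⟨Q, hQ⟩ := Sylow.exists_subgroup_card_pow_prime 2 (n := 3)
    (by simpa using h8 : 2 ^ 3 ∣ Nat.card (centralizer ({v * τ} : Set G)))
  set R := Q.map (centralizer ({v * τ} : Set G)).subtype with hR
  have hRc : Nat.card R = 8 := by
    rw [hR, card_map_of_injective (centralizer ({v * τ} : Set G)).subtype_injective, hQ]; norm_num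
  obtain ⟨T, hT⟩ := (IsPGroup.of_card (n := 3) (by rw [hRc]; norm_num) : IsPGroup 2 R).exists_le_sylow
  obtain ⟨g, rfl⟩ := MulAction.exists_smul_eq G T P
  have hTc : Nat.card (T : Subgroup G) = 8 :=
    ((Sylow.card_eq_multiplicity T).trans (Sylow.card_eq_multiplicity (g • T)).symm).trans h.card_P
  have hRT : R = (T : Subgroup G) := eq_of_le_of_card_ge hT (by rw [hRc, hTc])
  obtain ⟨x, hx, hxv⟩ := (h.vP : v ∈ ((g • T : Sylow 2 G) : Subgroup G))
  have hxv' : g * x * g⁻¹ = v := hxv
  have hxR : x ∈ R := hRT ▸ hx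
  obtain ⟨⟨x', hx'⟩, -, rfl⟩ := hxR
  have hxy : (v * τ) * x' = x' * (v * τ) := (mem_centralizer_singleton_iff.mp hx').symm
  replace hxv' : g * x' * g⁻¹ = v := hxv'
  have hcomm : g * (v * τ) * g⁻¹ * v = v * (g * (v * τ) * g⁻¹) := by
    generalize v * τ = y at hxy
    rw [← hxv', show g * y * g⁻¹ * (g * x' * g⁻¹) = g * (y * x') * g⁻¹ by group, hxy]
    group
  have h2 : orderOf (g * (v * τ) * g⁻¹) = 2 := by rw [Involution.orderOf_conj, h.y_ord]
  rcases h.mem_rot (h.cent _ hcomm) with e | e | e | e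
  · rw [e, orderOf_one] at h2; exact absurd h2 (by norm_num)
  · rw [e, h.v4] at h2; exact absurd h2 (by norm_num)
  · exact hnc ((isConj_iff.mpr ⟨g, e⟩).symm)
  · rw [e, ← h.v_inv, orderOf_inv, h.v4] at h2; exact absurd h2 (by norm_num)

/-- The character values when there is a subgroup of index two. -/
theorem exists_chars_index_two (H : Subgroup G) (hH : H.index = 2) (hv : v ∉ H) (hτ : τ ∈ H)
    (hc : IsConj (v * v) τ) :
    ∃ (A B C : IrrCharacter G) (a dA dB dC : ℤ), Chars v A B C a (-1) (-a) dA dB dC ∧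
      (A : G → ℂ) τ = dA ∧ (A : G → ℂ) (v * τ) = -dA ∧
      (B : G → ℂ) (v * τ) = -1 ∧ (C : G → ℂ) (v * τ) = dA ∧ dB = -1 ∧ dC = -dA := by
  classical
  haveI := Fintype.ofFinite G
  haveI := Fintype.ofFinite (IrrCharacter G)
  obtain ⟨l, hl1, hl2⟩ := exists_signHom hH
  have hz : v * v ∈ H := mul_self_mem_of_index_two hH v
  have hy : v * τ ∉ H := fun e => hv (by rw [mul_mem_iff_of_index_two hH] at e; exact e.2 hτ)
  obtain ⟨A, B₀, C₀, a, b₀, c₀, dA, dB₀, dC₀, hc₀⟩ := h.exists_chars
  let S : IrrCharacter G := ⟨l, Char.isIrrCharacter_of_hom l⟩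
  have hS : ∀ g, (S : G → ℂ) g = l g := fun _ => rfl
  obtain ⟨B, C, b, c, dB, dC, hch, hBS⟩ : ∃ (B C : IrrCharacter G) (b c dB dC : ℤ),
      Chars v A B C a b c dA dB dC ∧ B = S := by
    rcases hc₀.supp S (by rw [hS, hl2 v hv]; norm_num) with e | e | e | e
    · have h1 := congrFun (congrArg Subtype.val e) v
      rw [hS, hl2 v hv, show (BrauerPairs.oneIrr G : G → ℂ) v = 1 from rfl] at h1
      norm_num at h1
    · have h1 := congrFun (congrArg Subtype.val e) v
      have h2 := congrFun (congrArg Subtype.val e) (v * v)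
      rw [hS, hl2 v hv, hc₀.Av] at h1
      rw [hS, hl1 _ hz, hc₀.Az, ← h1] at h2
      norm_num at h2
    · exact ⟨B₀, C₀, b₀, c₀, dB₀, dC₀, hc₀, e.symm⟩
    · exact ⟨C₀, B₀, c₀, b₀, dC₀, dB₀, hc₀.swap, e.symm⟩
  subst hBS
  have hdB : dB = -1 := by
    have := hch.Bv; rw [hS, hl2 v hv] at this; exact_mod_cast this.symm
  let T : IrrCharacter G := ⟨_, Char.IsIrrCharacter.mul_linear A.2 l⟩
  have hT : ∀ g, (T : G → ℂ) g = (A : G → ℂ) g * l g := fun _ => rfl
  have hdA0 : (dA : ℂ) ≠ 0 := by rcases hch.sA with e | e <;> simp [e]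
  have hTC : T = C := by
    rcases hch.supp T (by rw [hT, hch.Av, hl2 v hv]; simpa using hdA0) with e | e | e | e
    · refine absurd (Subtype.ext (funext fun g => ?_)) hch.AB
      have h1 := congrFun (congrArg Subtype.val e) g
      rw [hT, show (BrauerPairs.oneIrr G : G → ℂ) g = 1 from rfl] at h1
      show (A : G → ℂ) g = l g
      by_cases hg : g ∈ H
      · rw [hl1 g hg] at h1 ⊢; linear_combination h1
      · rw [hl2 g hg] at h1 ⊢; linear_combination -h1
    · have h1 := congrFun (congrArg Subtype.val e) v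
      rw [hT, hch.Av, hl2 v hv] at h1
      exact absurd (by linear_combination (-(1 : ℂ) / 2) * h1 : (dA : ℂ) = 0) hdA0
    · refine absurd (Subtype.ext (funext fun g => ?_)) hch.nA
      have h1 := congrFun (congrArg Subtype.val e) g
      rw [hT, hS] at h1
      show (A : G → ℂ) g = 1
      by_cases hg : g ∈ H
      · rwa [hl1 g hg, mul_one] at h1
      · rw [hl2 g hg] at h1; linear_combination -h1
    · exact e
  subst hTC
  have hdC : dC = -dA := by
    have := hch.Cv; rw [hT, hch.Av, hl2 v hv] at this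
    have h' : ((dC : ℤ) : ℂ) = ((-dA : ℤ) : ℂ) := by push_cast; linear_combination -this
    exact_mod_cast h'
  have hb : b = -1 := by
    have h1 : ((deg S : ℤ) : ℂ) = 1 := by rw [← apply_one, hS, map_one]
    rw [hch.eb, hdB, show deg S = 1 by exact_mod_cast h1, mul_one]
  have hcc : c = -a := by have := hch.sum; omega
  subst hb hcc
  have hAτ : (A : G → ℂ) τ = dA := by
    rw [ClassCount.class_apply (Char.IsIrrCharacter.isClassFunction A.2) hc, hch.Az]
  have hncv : ¬ IsConj v (v * τ) := fun e => by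
    have := Involution.orderOf_eq_of_isConj e; rw [h.v4, h.y_ord] at this; norm_num at this
  have hcol := Char.column_orth v (v * τ)
  rw [if_neg hncv] at hcol
  rw [← Finset.sum_subset (Finset.subset_univ {BrauerPairs.oneIrr G, A, S, T}) fun χ _ hχ => by
    by_cases h0 : (χ : G → ℂ) v = 0
    · rw [h0, zero_mul]
    · exact absurd (by simpa using hch.supp χ h0) hχ,
    Finset.sum_insert (by simp [hch.nA.symm, hch.nB.symm, hch.nC.symm]),
    Finset.sum_insert (by simp [hch.AB, hch.AC]), Finset.sum_insert (by simp [hch.BC]),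
    Finset.sum_singleton, hch.Av, hch.Bv, hch.Cv, hS, hT, hl2 _ hy, hdB, hdC,
    show (BrauerPairs.oneIrr G : G → ℂ) v = 1 from rfl,
    show (BrauerPairs.oneIrr G : G → ℂ) (v * τ) = 1 from rfl] at hcol
  simp only [map_one, map_neg, map_mul, Int.cast_neg, Int.cast_one] at hcol
  have hdd : (dA : ℂ) * dA = 1 := by rcases hch.sA with e | e <;> simp [e]
  have hf : conj ((A : G → ℂ) (v * τ)) = -(dA : ℂ) := by
    linear_combination ((dA : ℂ) / 2) * hcol - conj ((A : G → ℂ) (v * τ)) * hdd
  have hAy : (A : G → ℂ) (v * τ) = -(dA : ℂ) := by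
    have := congrArg conj hf
    rwa [Complex.conj_conj, map_neg, map_intCast] at this
  refine ⟨A, S, T, a, dA, dB, dC, hch, hAτ, hAy, by rw [hS, hl2 _ hy], ?_, hdB, hdC⟩
  rw [hT, hAy, hl2 _ hy]; ring

theorem fibre_two (H : Subgroup G) (hH : H.index = 2) (hv : v ∉ H) (hτ : τ ∈ H)
    (hc : IsConj (v * v) τ) : ClassCount.fibreCount (v * v) (v * τ) v = 2 := by
  classical
  haveI := normal_of_index_eq_two hH
  have hz : v * v ∈ H := mul_self_mem_of_index_two hH v
  have hy : v * τ ∉ H := fun e => hv (by rw [mul_mem_iff_of_index_two hH] at e; exact e.2 hτ)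
  have hzy : v * v * (v * τ) ∉ H := fun e => hy (by rwa [mul_mem_cancel_left hz] at e)
  rw [ClassCount.fibreCount, ← Finset.card_pair (a := τ) (b := v * v * τ) h.zτ_ne_τ.symm]
  refine Nat.subtype_card _ fun g => ?_
  rw [Finset.mem_insert, Finset.mem_singleton]
  constructor
  · have hzt : (v * v * τ)⁻¹ * v = v * τ := by
      rw [mul_inv_rev, h.τ_inv, Involution.inv_eq h.z_ord, mul_assoc, mul_assoc v v v,
        ← mul_assoc τ v, h.τ_mul_v]
      calc v * v * (v * τ) * (v * v) = v * v * ((v * τ) * (v * v)) := by group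
        _ = v * v * ((v * v) * (v * τ)) := by rw [← (h.commute_z (mul_mem h.vP h.τP)).eq]
        _ = v * τ := by rw [← mul_assoc, h.zz, one_mul]
    rintro (rfl | rfl)
    · exact ⟨hc, by rw [h.τ_inv, h.τ_mul_v]; exact isConj_iff.mpr ⟨v, h.v_conj_y⟩⟩
    · exact ⟨hc.trans h.isConj_τ_zτ, by rw [hzt]⟩
  · rintro ⟨h1, h2⟩
    have hg2 : orderOf g = 2 := by rw [← Involution.orderOf_eq_of_isConj h1, h.z_ord]
    have hgH : g ∈ H := by
      obtain ⟨c, rfl⟩ := isConj_iff.mp h1
      exact Subgroup.Normal.conj_mem inferInstance _ hz c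
    have hw2 : orderOf (g⁻¹ * v) = 2 := by rw [← Involution.orderOf_eq_of_isConj h2, h.y_ord]
    have hw := Involution.mul_self hw2
    rw [Involution.inv_eq hg2] at hw
    have hinv : g * v * g = v⁻¹ := by
      rw [eq_inv_iff_mul_eq_one, ← hw]; group
    rcases h.inverts_cases (Involution.mul_self hg2) hinv with e | e | e | e
    · exact Or.inl e
    · exact Or.inr e
    · exact absurd (e ▸ hgH) hy
    · exact absurd (e ▸ hgH) hzy

set_option maxHeartbeats 1000000 in
/-- Arithmetic consequences of a subgroup of index two. -/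
theorem index_two (H : Subgroup G) (hH : H.index = 2) (hv : v ∉ H) (hτ : τ ∈ H)
    (hc : IsConj (v * v) τ) :
    ∃ I : ℕ, Odd I ∧
      Nat.card (centralizer ({v * τ} : Set G)) = 4 * Nat.card (K v (v * τ)) * I ∧
      Nat.card G = 16 * Nat.card (Oz v) * Nat.card (K v (v * τ)) * I +
        8 * Nat.card (Oz v) * I ^ 2 ∧
      Nat.card (K v (v * τ)) ≤ I ∧ I ≤ 3 * Nat.card (K v (v * τ)) := by
  classical
  haveI hn := normal_of_index_eq_two hH
  set z := v * v with hzdef
  set y := v * τ with hydef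
  set o := Nat.card (Oz v) with hodef
  set q := Nat.card (K v y) with hqdef
  have hz : z ∈ H := mul_self_mem_of_index_two hH v
  have hmem : ∀ {a b : G}, a * b ∈ H ↔ (a ∈ H ↔ b ∈ H) := mul_mem_iff_of_index_two hH
  have hy : y ∉ H := fun e => hv ((hmem.1 e).2 hτ)
  have hzy : z * y ∉ H := fun e => hy (by rwa [mul_mem_cancel_left hz] at e)
  have hconjH : ∀ {a b : G}, IsConj a b → (a ∈ H ↔ b ∈ H) := fun {a b} e => by
    obtain ⟨c, rfl⟩ := isConj_iff.mp e
    exact ⟨fun ha => hn.conj_mem _ ha c, fun hb => by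
      have := hn.conj_mem _ hb c⁻¹
      rwa [show c⁻¹ * (c * a * c⁻¹) * c⁻¹⁻¹ = a by group] at this⟩
  have hnc : ¬ IsConj z y := fun e => hy ((hconjH e).1 hz)
  have hall : ∀ t, orderOf t = 2 → IsConj z t ∨ IsConj y t := fun t ht => by
    rcases h.isConj_cases ht with e | e | e
    exacts [Or.inl e, Or.inl (hc.trans e), Or.inr e]
  have hinH : ∀ {t}, orderOf t = 2 → (IsConj z t ↔ t ∈ H) := fun {t} ht =>
    ⟨fun e => (hconjH e).1 hz, fun htH => (hall t ht).resolve_right fun e => hy ((hconjH e).2 htH)⟩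
  have houtH : ∀ {t}, orderOf t = 2 → (IsConj y t ↔ t ∉ H) := fun {t} ht =>
    ⟨fun e htH => hy ((hconjH e).2 htH),
      fun htH => (hall t ht).resolve_left fun e => htH ((hinH ht).1 e)⟩
  have hO : ∀ k ∈ Oz v, k ∈ H := fun k hk => by
    obtain ⟨m, hm⟩ := h.exists_sqrt hk
    rw [← hm]; exact mul_self_mem_of_index_two hH _
  have hin : ∀ x ∈ coset2 v τ, x ∈ H := fun x hx => by
    obtain ⟨k, hk, e | e⟩ := hx <;> rw [e]
    · exact mul_mem (hO k hk.1) hτ
    · exact mul_mem (hO k hk.1) (mul_mem hz hτ)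
  have hout : ∀ x ∈ coset2 v y, x ∉ H := fun x hx => by
    obtain ⟨k, hk, e | e⟩ := hx <;> rw [e, mul_mem_cancel_left (hO k hk.1)]
    exacts [hy, hzy]
  -- first pair count
  have hn1 : Nat.card {p : G × G // IsConj z p.1 ∧ IsConj y p.2 ∧ z ∈ zpowers (p.1 * p.2)} =
      Nat.card (coset2 v τ) * Nat.card (coset2 v y) := by
    rw [← Nat.card_prod]
    refine (Nat.card_congr ((Equiv.subtypeEquivRight fun p => ?_).trans
      (Equiv.subtypeProdEquivProd (p := fun x => x ∈ coset2 v τ) (q := fun x => x ∈ coset2 v y))))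
    constructor
    · rintro ⟨hu, hw, hzp⟩
      have hu2 : orderOf p.1 = 2 := (Involution.orderOf_eq_of_isConj hu).symm.trans h.z_ord
      have hw2 : orderOf p.2 = 2 := (Involution.orderOf_eq_of_isConj hw).symm.trans h.y_ord
      obtain ⟨k, hk⟩ := mem_zpowers_iff.1 hzp
      have hcent : ∀ t, t * (p.1 * p.2) * t⁻¹ = (p.1 * p.2)⁻¹ → t ∈ Cz v := fun t ht => by
        have := Involution.inverts_zpow ht k
        rw [hk, Involution.inv_eq h.z_ord, mul_inv_eq_iff_eq_mul] at this
        exact mem_centralizer_singleton_iff.mpr this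
      refine ⟨?_, ?_⟩
      · rcases h.involution_cases (hcent _ (Involution.inverts_mul_left hu2 hw2))
          (Involution.mul_self hu2) with e | e | e | e
        · exact absurd e (Involution.ne_one hu2)
        · exfalso
          have hzw : Commute p.2 z :=
            mem_centralizer_singleton_iff.mp (hcent _ (Involution.inverts_mul_right hu2 hw2))
          have hsq : p.1 * p.2 * (p.1 * p.2) = 1 := by
            rw [e, show z * p.2 * (z * p.2) = z * (p.2 * z) * p.2 by group, hzw.eq,
              ← mul_assoc z z, h.zz, one_mul, Involution.mul_self hw2]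
          rcases zpowers_sq hsq hzp with e' | e'
          · exact Involution.ne_one h.z_ord e'
          · exact Involution.ne_one hw2 (by rwa [e, left_eq_mul] at e')
        · exact e
        · exact absurd ((hinH hu2).1 hu) (hout _ e)
      · rcases h.involution_cases (hcent _ (Involution.inverts_mul_right hu2 hw2))
          (Involution.mul_self hw2) with e | e | e | e
        · exact absurd e (Involution.ne_one hw2)
        · exact absurd hw fun e' => (houtH hw2).1 e' (e ▸ hz)
        · exact absurd (hin _ e) ((houtH hw2).1 hw)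
        · exact e
    · rintro ⟨hu, hw⟩
      refine ⟨hc.trans (h.isConj_coset2 hu), h.symm.isConj_coset2 hw, ?_⟩
      suffices hsq : p.1 * p.2 * (p.1 * p.2) = z by rw [← hsq]; exact mul_mem (mem_zpowers _) (mem_zpowers _)
      obtain ⟨k, hk, hu⟩ := hu
      obtain ⟨k', hk', hw⟩ := hw
      obtain ⟨r, hrP, hr⟩ : ∃ r, r ∈ (P : Subgroup G) ∧ p.1 = k * r ∧ r ∈ H ∧ (r = τ ∨ r = z * τ) := by
        rcases hu with e | e
        exacts [⟨τ, h.τP, e, hτ, Or.inl rfl⟩, ⟨_, mul_mem h.zP h.τP, e, mul_mem hz hτ, Or.inr rfl⟩]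
      obtain ⟨r', hr'⟩ : ∃ r', p.2 = k' * r' ∧ (r' = y ∨ r' = z * y) := by
        rcases hw with e | e
        exacts [⟨y, e, Or.inl rfl⟩, ⟨z * y, by rw [e], Or.inr rfl⟩]
      have hk'' : k * (r * k' * r⁻¹) ∈ Oz v := mul_mem hk.1 (h.conj_O (h.P_le hrP) hk'.1)
      have hrr : r * r' = v ∨ r * r' = v * v * v := by
        have e1 : τ * y = v * v * v := by
          rw [hydef, ← mul_assoc, h.τv, h.v_inv]
        have e2 : z * (v * v * v) = v := by rw [hzdef, ← mul_assoc, h.zz, one_mul]
        have hzτ : Commute z τ := h.commute_z h.τP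
        have e3 : τ * (z * y) = v := by rw [← mul_assoc, ← hzτ.eq, mul_assoc, e1, e2]
        rcases hr.2.2 with rfl | rfl <;> rcases hr'.2 with rfl | rfl
        · exact Or.inr e1
        · exact Or.inl e3
        · exact Or.inl (by rw [mul_assoc, e1, e2])
        · refine Or.inr ?_
          rw [mul_assoc z τ, e3]
      have hd : p.1 * p.2 = k * (r * k' * r⁻¹) * (r * r') := by rw [hr.1, hr'.1]; group
      rw [hd]
      rcases hrr with e | e <;> rw [e]
      exacts [(h.sq_rot hk'').1, (h.sq_rot hk'').2]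
  -- the centraliser of `y` inside `H`
  set L := centralizer ({y} : Set G) with hLdef
  set D := H ⊓ L with hDdef
  have hLD : Nat.card L = 2 * Nat.card D :=
    card_eq_two_mul_inf hH (mem_centralizer_singleton_iff.mpr rfl) hy
  have hD4 : ¬ 4 ∣ Nat.card D := fun e => h.not_eight_dvd hnc (by
    rw [show 8 = 2 * 4 from rfl, hLD]; exact mul_dvd_mul_left 2 e)
  have hzD : z ∈ D := ⟨hz, mem_centralizer_singleton_iff.mpr (h.commute_z (mul_mem h.vP h.τP)).eq⟩
  have hDodd : ∀ {a b : G}, a ∈ D → b ∈ D → orderOf a = 2 → orderOf b = 2 → Odd (orderOf (a * b)) :=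
    fun {a b} ha hb h2a h2b => by
      have := odd_orderOf_mul hD4 (a := (⟨a, ha⟩ : D)) (b := ⟨b, hb⟩) (by rwa [orderOf_mk])
        (by rwa [orderOf_mk])
      rwa [← orderOf_coe] at this
  set I := Nat.card {g : G // g ∈ D ∧ orderOf g = 2} with hIdef
  have hI : I * (2 * q) = Nat.card D := by
    have h1 := ClassCount.card_class_mul_card_centralizer (⟨z, hzD⟩ : D)
    have e1 : I = Nat.card {g : D // IsConj (⟨z, hzD⟩ : D) g} := by
      refine Nat.card_congr ((Equiv.subtypeSubtypeEquivSubtypeInter (· ∈ D) (fun g => orderOf g = 2)).symm.trans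
        (Equiv.subtypeEquivRight fun g => ⟨fun hg => ?_, fun hg => ?_⟩))
      · refine Involution.isConj_of_odd (by rw [orderOf_mk, h.z_ord]) (by rwa [← orderOf_coe]) ?_
        rw [← orderOf_coe]
        exact hDodd hzD g.2 h.z_ord hg
      · rw [orderOf_coe, ← Involution.orderOf_eq_of_isConj hg, orderOf_mk, h.z_ord]
    have e2 : Nat.card (centralizer ({(⟨z, hzD⟩ : D)} : Set D)) =
        Nat.card (H ⊓ (Cz v ⊓ L) : Subgroup G) := by
      refine Nat.card_congr ⟨fun g => ⟨g.1.1, g.1.2.1, mem_centralizer_singleton_iff.mpr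
          (congrArg Subtype.val (mem_centralizer_singleton_iff.mp g.2)), g.1.2.2⟩,
        fun g => ⟨⟨g.1, g.2.1, g.2.2.2⟩, mem_centralizer_singleton_iff.mpr
          (Subtype.ext (mem_centralizer_singleton_iff.mp g.2.2.1))⟩, fun _ => rfl, fun _ => rfl⟩
    have e3 := card_eq_two_mul_inf hH (L := Cz v ⊓ L) (y := y)
      ⟨h.P_le (mul_mem h.vP h.τP), mem_centralizer_singleton_iff.mpr rfl⟩ hy
    rw [hLdef, h.symm.card_Cz_inf, ← hydef, ← hqdef] at e3
    rw [← hLdef] at e3
    rw [← e1, e2] at h1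
    rw [← h1, show 2 * q = Nat.card (H ⊓ (Cz v ⊓ L) : Subgroup G) by omega]
  have hqI : Odd (q * I) := odd_of_not_four_dvd (by rw [show 2 * (q * I) = I * (2 * q) by ring, hI]; exact hD4)
  have hn2 : Nat.card {p : G × G // IsConj z p.1 ∧ IsConj y p.2 ∧ y ∈ zpowers (p.1 * p.2)} = I * I := by
    rw [hIdef, ← Nat.card_prod]
    refine Nat.card_congr ((Equiv.subtypeEquiv ((Equiv.refl G).prodCongr (Equiv.mulRight y)) fun p => ?_).trans
      (Equiv.subtypeProdEquivProd (p := fun g => g ∈ D ∧ orderOf g = 2)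
        (q := fun g => g ∈ D ∧ orderOf g = 2)))
    show _ ↔ (p.1 ∈ D ∧ orderOf p.1 = 2) ∧ (p.2 * y ∈ D ∧ orderOf (p.2 * y) = 2)
    have hyi : y⁻¹ = y := Involution.inv_eq h.y_ord
    have hyy : y * y = 1 := Involution.mul_self h.y_ord
    constructor
    · rintro ⟨hu, hw, hyp⟩
      have hu2 : orderOf p.1 = 2 := (Involution.orderOf_eq_of_isConj hu).symm.trans h.z_ord
      have hw2 : orderOf p.2 = 2 := (Involution.orderOf_eq_of_isConj hw).symm.trans h.y_ord
      obtain ⟨k, hk⟩ := mem_zpowers_iff.1 hyp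
      have hcent : ∀ t, t * (p.1 * p.2) * t⁻¹ = (p.1 * p.2)⁻¹ → Commute t y := fun t ht => by
        have := Involution.inverts_zpow ht k
        rw [hk, hyi, mul_inv_eq_iff_eq_mul] at this
        exact this
      have hcu := hcent _ (Involution.inverts_mul_left hu2 hw2)
      have hcw := hcent _ (Involution.inverts_mul_right hu2 hw2)
      have hwH := (houtH hw2).1 hw
      refine ⟨⟨⟨(hinH hu2).1 hu, mem_centralizer_singleton_iff.mpr hcu.eq⟩, hu2⟩,
        ⟨hmem.2 ⟨fun e => absurd e hwH, fun e => absurd e hy⟩,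
          mem_centralizer_singleton_iff.mpr (hcw.mul_left (Commute.refl y)).eq⟩,
        Involution.orderOf_of_sq ?_ ?_⟩
      · exact mul_sq_one (Involution.mul_self hw2) hyy hcw
      · intro e
        have ewy : p.2 = y := by rw [eq_inv_of_mul_eq_one_left e, hyi]
        have hsq : p.1 * p.2 * (p.1 * p.2) = 1 := by
          rw [ewy]; exact mul_sq_one (Involution.mul_self hu2) hyy hcu
        rcases zpowers_sq hsq hyp with e' | e'
        · exact Involution.ne_one h.y_ord e'
        · exact Involution.ne_one hu2 (by rwa [ewy, right_eq_mul] at e')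
    · rintro ⟨⟨hu, hu2⟩, hw, hw2⟩
      have hcw : Commute (p.2 * y) y := mem_centralizer_singleton_iff.mp hw.2
      have hp2H : p.2 ∉ H := fun e => hy ((hmem.1 hw.1).1 e)
      have hp22 : orderOf p.2 = 2 := by
        refine Involution.orderOf_of_sq ?_ fun e => hp2H (e ▸ one_mem _)
        have e2 : p.2 * y * y = p.2 := by rw [mul_assoc p.2 y y, hyy, mul_one]
        have := mul_sq_one (Involution.mul_self hw2) hyy hcw
        rwa [e2] at this
      refine ⟨(hinH hu2).2 hu.1, (houtH hp22).2 hp2H, ?_⟩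
      have hodd := hDodd hu hw hu2 hw2
      set g := p.1 * (p.2 * y) with hg
      have hgy : Commute g y :=
        (show Commute p.1 y from mem_centralizer_singleton_iff.mp hu.2).mul_left hcw
      have hd : p.1 * p.2 = g * y := by
        rw [hg, mul_assoc p.1 (p.2 * y) y, mul_assoc p.2 y y, hyy, mul_one]
      have hpow : (g * y) ^ orderOf g = y := by
        obtain ⟨m, hm⟩ := hodd
        rw [hgy.mul_pow, pow_orderOf_eq_one, one_mul, hm, pow_succ, pow_mul, pow_two, hyy, one_pow,
          one_mul]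
      rw [hd]
      have := pow_mem (mem_zpowers (g * y)) (orderOf g)
      rwa [hpow] at this
  -- the order formula
  have hcard := Cfsg.Agent.S0213.result z y h.z_ord h.y_ord hnc hall
  rw [hn1, hn2, h.card_coset2, h.symm.card_coset2] at hcard
  have hKp : Nat.card (K v (v * y)) = Nat.card (K v τ) := by rw [hydef, h.K_symm_symm]
  rw [hKp] at hcard
  have hLc : Nat.card L = 4 * q * I := by rw [hLD, ← hI]; ring
  have hzc : Nat.card (centralizer ({z} : Set G)) = 8 * o := h.card_Cz
  rw [← hLdef, hLc, hzc, ← hqdef] at hcard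
  have ho : o = Nat.card (K v τ) * q := h.card_O
  have hG : Nat.card G = 16 * o * q * I + 8 * o * I ^ 2 := by rw [hcard, ho]; ring
  refine ⟨I, (Nat.odd_mul.1 hqI).2, hLc, hG, ?_⟩
  obtain ⟨A, B, C, a, dA, dB, dC, hch, hAτ, hAy, hBy, hCy, hdB, hdC⟩ :=
    h.exists_chars_index_two H hH hv hτ hc
  have ha0 : a ≠ 0 := by
    rw [hch.ea]; have := deg_pos A; rcases hch.sA with e | e <;> rw [e] <;> omega
  have hf := h.fibre_formula hch z y
  rw [h.fibre_two H hH hv hτ hc, ← hLdef, hLc, hzc, hch.Az, hch.Bz, hch.Cz, hAy, hBy, hCy, hdB,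
    hdC] at hf
  have hdd : (dA : ℂ) * dA = 1 := by rcases hch.sA with e | e <;> simp [e]
  have haC : (a : ℂ) ≠ 0 := Int.cast_ne_zero.2 ha0
  have hint : (64 * o * q * I : ℤ) * a = Nat.card G * (2 * (a - 1)) := by
    have : (((64 * o * q * I : ℤ) * a : ℤ) : ℂ) = ((Nat.card G * (2 * (a - 1)) : ℤ) : ℂ) := by
      push_cast at hf ⊢
      field_simp at hf
      linear_combination hf - 2 * (Nat.card G : ℂ) * hdd
    exact_mod_cast this
  rw [hG] at hint
  push_cast at hint
  have hopos : 0 < o := Nat.card_pos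
  have hqpos : 0 < q := Nat.card_pos
  have hIpos : 0 < I := (Nat.odd_mul.1 hqI).2.pos
  have hrel : (I : ℤ) * (a - 1) = 2 * q * (a + 1) := by
    have h8 : (16 * o * I : ℤ) ≠ 0 := by positivity
    refine mul_left_cancel₀ h8 ?_
    linear_combination -hint
  obtain ⟨m, hm⟩ := h.congr_eight A
  rw [apply_one, hch.Az, hch.Av, hAτ, hAy] at hm
  have hm' : deg A + 3 * dA = 8 * m := by
    have : ((deg A + 3 * dA : ℤ) : ℂ) = ((8 * m : ℤ) : ℂ) := by push_cast; linear_combination hm
    exact_mod_cast this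
  have ha5 : 5 ≤ a ∨ a ≤ -3 := by
    rw [hch.ea]; have := deg_pos A
    rcases hch.sA with e | e <;> rw [e] at hm' ⊢ <;> omega
  have hq' : (0 : ℤ) < q := by exact_mod_cast hqpos
  constructor
  · by_contra hlt
    push Not at hlt
    have hlt' : (I : ℤ) + 1 ≤ q := by exact_mod_cast hlt
    rcases ha5 with e | e <;> nlinarith
  · by_contra hlt
    push Not at hlt
    have hlt' : 3 * (q : ℤ) + 1 ≤ I := by exact_mod_cast hlt
    rcases ha5 with e | e <;> nlinarith

end Hyp

end Cfsg.Agent.CentFour
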