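import Cfsg.Agent.Lib.CentFour.Setup
import Cfsg.Agent.Lib.CentFour.Index2
import Cfsg.Agent.Lib.SmallOrders.Basic
import Cfsg.Agent.Lib.PairsCyclic.Basic
import Cfsg.Agent.Lib.PGroup.MaximalClass
import Cfsg.Agent.Lib.TwoGroupRecog.Basic
import Cfsg.Agent.Lib.Transfer.SemidihedralFusion
import Cfsg.Agent.Lib.TwoFusion.Transfer
import Cfsg.Agent.Lib.ZStar.Unique
import Cfsg.Agent.Lib.ZStar.Apply
import Cfsg.Agent.Lib.ZStar.KleinSimple

/-!
# The Sylow 2-subgroup at a self-centralising element of order four in a simple group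
-/

set_option autoImplicit false
set_option linter.unusedSectionVars false
set_option linter.style.haveILetI false

namespace Cfsg.Agent.CentFour

open Cfsg Subgroup

universe u

theorem kleinFour_of_no_four {C : Type*} [Group C] [Finite C] (hc : Nat.card C = 4)
    (hno : ∀ g : C, orderOf g ≠ 4) : IsKleinFour C := by
  haveI : Nontrivial C := Finite.one_lt_card_iff_nontrivial.1 (by rw [hc]; norm_num)
  have hsq : ∀ g : C, g ^ 2 = 1 := fun g => by
    have hd : orderOf g ∣ 2 ^ 2 := by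
      rw [show 2 ^ 2 = Nat.card C by rw [hc]; norm_num]; exact orderOf_dvd_natCard g
    obtain ⟨i, hi, e⟩ := (Nat.dvd_prime_pow Nat.prime_two).1 hd
    refine orderOf_dvd_iff_pow_eq_one.1 ?_
    interval_cases i
    · rw [e]; norm_num
    · rw [e]; norm_num
    · exact absurd (by simpa using e) (hno g)
  refine ⟨hc, ((Nat.dvd_prime Nat.prime_two).1
    (Monoid.exponent_dvd_of_forall_pow_eq_one hsq)).resolve_left ?_⟩
  intro h1
  exact not_subsingleton C (Monoid.exp_eq_one_iff.1 h1)

variable {G : Type u} [Group G] [Finite G] [IsSimpleGroup G]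

theorem two_dvd_of_orderOf {g : G} (h : 2 ∣ orderOf g) : 2 ∣ Nat.card G :=
  h.trans (orderOf_dvd_natCard g)

theorem not_cyclic_sylow (hG : ¬ IsMulCommutative G) (h2 : 2 ∣ Nat.card G) (P : Sylow 2 G) :
    ¬ IsCyclic (P : Subgroup G) := by
  haveI := Fact.mk Nat.prime_two
  intro hc
  obtain ⟨Q, N, hN, hcomp⟩ := PairsCyclic.hasNormalPComplement_two P hc rfl
  rcases hN.eq_bot_or_eq_top with e | e
  · subst e
    refine SmallOrders.not_isPGroup hG 2 ?_
    obtain ⟨k, hk⟩ := IsPGroup.iff_card.1 Q.isPGroup'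
    exact IsPGroup.of_card (n := k) (by rw [← hcomp.card_mul, card_bot, one_mul, hk])
  · subst e
    have h := hcomp.card_mul
    rw [card_top] at h
    have hQ1 : Nat.card (Q : Subgroup G) = 1 :=
      (mul_eq_left₀ Nat.card_pos.ne').1 h
    have := Q.dvd_card_of_dvd_card h2
    rw [hQ1] at this
    norm_num at this

theorem card_sylow_ne_two (hG : ¬ IsMulCommutative G) (h2 : 2 ∣ Nat.card G) (P : Sylow 2 G) :
    Nat.card (P : Subgroup G) ≠ 2 := fun e =>
  haveI := Fact.mk Nat.prime_two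
  not_cyclic_sylow hG h2 P (isCyclic_of_prime_card e)

theorem not_quaternion (hG : ¬ IsMulCommutative G) (P : Sylow 2 G) {k : ℕ}
    (e : (P : Subgroup G) ≃* QuaternionGroup (2 ^ (k + 1))) : False := by
  haveI := Fact.mk Nat.prime_two
  haveI : NeZero (2 ^ (k + 1)) := ⟨by positivity⟩
  have huniq : ∀ q : QuaternionGroup (2 ^ (k + 1)), orderOf q = 2 →
      q ∈ zpowers (QuaternionGroup.a 1 : QuaternionGroup (2 ^ (k + 1))) := by
    rintro (i | i) hq
    · refine ⟨(i.val : ℤ), ?_⟩
      show (QuaternionGroup.a 1 : QuaternionGroup (2 ^ (k + 1))) ^ (i.val : ℤ) = _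
      rw [zpow_natCast, QuaternionGroup.a_one_pow, ZMod.natCast_zmod_val]
    · rw [QuaternionGroup.orderOf_xa] at hq; norm_num at hq
  let ψ : QuaternionGroup (2 ^ (k + 1)) →* G := (P : Subgroup G).subtype.comp e.symm.toMonoidHom
  have hψ : Function.Injective ψ := (P : Subgroup G).subtype_injective.comp e.symm.injective
  set u : QuaternionGroup (2 ^ (k + 1)) := QuaternionGroup.a 1 ^ (2 ^ (k + 1)) with hu
  have hu2 : orderOf u = 2 := by
    have h0 : (2 ^ (k + 1) : ℕ) ≠ 0 := by positivity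
    rw [hu, orderOf_pow' _ h0, QuaternionGroup.orderOf_a_one,
      Nat.gcd_eq_right (dvd_mul_left _ _), Nat.mul_div_cancel _ (Nat.pos_of_ne_zero h0)]
  have hiso : IsIsolatedInvolution (ψ u) := by
    refine ZStar.isolated_of_sylow P (by rw [orderOf_injective ψ hψ, hu2]) (e.symm u).2 fun g hg => ?_
    have h2 : orderOf (g * ψ u * g⁻¹) = 2 := by
      rw [Involution.orderOf_conj, orderOf_injective ψ hψ, hu2]
    obtain ⟨q, hq⟩ : ∃ q, ψ q = g * ψ u * g⁻¹ :=
      ⟨e ⟨_, hg⟩, by show ((e.symm (e ⟨_, hg⟩) : (P : Subgroup G)) : G) = _; rw [e.symm_apply_apply]⟩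
    rw [← hq, orderOf_injective ψ hψ] at h2
    rw [← hq, KleinSimple.eq_of_orderOf_two (isOfFinOrder_of_finite _) (huniq q h2) (huniq u hu2) h2 hu2]
  have hO : pPrimeCore 2 G = ⊥ := by
    refine le_bot_iff.1 (sSup_le fun N hN => ?_)
    obtain ⟨hNn, hc⟩ := hN
    rcases hNn.eq_bot_or_eq_top with h | h
    · exact h.le
    · exfalso
      rw [h, card_top, Nat.coprime_comm, Nat.prime_two.coprime_iff_not_dvd] at hc
      exact hc (two_dvd_of_orderOf (g := ψ u) (by rw [orderOf_injective ψ hψ, hu2]))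
  have hz := ZStar.isolated_mem_center ZStar.uniqueInvolution hiso hO
  rw [SmallOrders.center_eq_bot hG, mem_bot] at hz
  have h1 := hiso.1
  rw [hz, orderOf_one] at h1
  norm_num at h1

theorem orderOf_dvd_four {v x : G} (h4 : orderOf v = 4)
    (hcent : ∀ g : G, g * v = v * g → g ∈ zpowers v) (hx : x * v = v * x) : orderOf x ∣ 4 :=
  h4 ▸ orderOf_dvd_of_mem_zpowers (hcent x hx)

open QDWreath in
theorem not_semidihedral (hG : ¬ IsMulCommutative G) (P : Sylow 2 G) {n : ℕ}
    (d : QDData (P : Subgroup G) n) {v : G} (hvP : v ∈ (P : Subgroup G)) (h4 : orderOf v = 4)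
    (hcent : ∀ g : G, g * v = v * g → g ∈ zpowers v) : False := by
  haveI := Fact.mk Nat.prime_two
  obtain ⟨l, hl1, hl2⟩ := exists_signHom (Transfer.SD.index_dih d)
  set φ : (P : Subgroup G) →* ℂˣ := l.toHomUnits with hφ
  have hφval : ∀ x, (φ x : ℂ) = l x := fun x => rfl
  -- an element of order four whose odd power is conjugate to `v` lies outside the dihedral subgroup
  have key4 : ∀ (s : (P : Subgroup G)) (a : G), (s : G) = a * v * a⁻¹ → s ∉ d.dih := by
    intro s a hs
    have hs4 : orderOf s = 4 := by rw [← orderOf_coe, hs, Involution.orderOf_conj, h4]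
    rcases d.cases s with ⟨i, rfl⟩ | ⟨i, rfl⟩
    · exfalso
      have hc : (d.x : G) * (d.a i : G) = (d.a i : G) * d.x := by
        rw [← coe_mul, ← coe_mul, ← d.a_one', d.a_mul_a, d.a_mul_a, add_comm]
      rw [hs] at hc
      have hc' : a⁻¹ * (d.x : G) * a * v = v * (a⁻¹ * (d.x : G) * a) := by
        calc a⁻¹ * (d.x : G) * a * v = a⁻¹ * ((d.x : G) * (a * v * a⁻¹)) * a := by group
          _ = v * (a⁻¹ * (d.x : G) * a) := by rw [hc]; group
      have := orderOf_dvd_four h4 hcent hc'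
      rw [show a⁻¹ * (d.x : G) * a = a⁻¹ * (d.x : G) * a⁻¹⁻¹ by rw [inv_inv],
        Involution.orderOf_conj, orderOf_coe, d.order_x] at this
      have h3 := (pow_dvd_pow 2 d.hn).trans this
      norm_num at h3
    · obtain ⟨k, rfl | rfl⟩ := QDWreath.even_or_odd i
      · rw [d.orderOf_b_even] at hs4; norm_num at hs4
      · exact Transfer.SD.b_odd_notMem_dih d k
  have hv' : (⟨v, hvP⟩ : (P : Subgroup G)) ∉ d.dih := key4 _ 1 (by group)
  have hφv : (φ ⟨v, hvP⟩ : ℂ) = -1 := by rw [hφval, hl2 _ hv']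
  have hkey : ∀ (k : ℕ) (a : G) (hm : a * ((⟨v, hvP⟩ : (P : Subgroup G)) : G) ^ k * a⁻¹ ∈ (P : Subgroup G)),
      φ ⟨_, hm⟩ = φ ⟨v, hvP⟩ ^ k := by
    intro k a hm
    refine Units.ext ?_
    rw [Units.val_pow_eq_pow_val, hφv, hφval]
    rcases Nat.even_or_odd k with hk | hk
    · rw [hk.neg_one_pow]
      refine hl1 _ ?_
      obtain ⟨m, rfl⟩ := hk
      set s : (P : Subgroup G) := ⟨a * v ^ (m + m) * a⁻¹, hm⟩
      have hs : s * s = 1 := Subtype.ext (by
        show a * v ^ (m + m) * a⁻¹ * (a * v ^ (m + m) * a⁻¹) = 1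
        rw [show a * v ^ (m + m) * a⁻¹ * (a * v ^ (m + m) * a⁻¹) = a * (v ^ (m + m) * v ^ (m + m)) * a⁻¹
          by group, ← pow_add, show m + m + (m + m) = 4 * m by ring, pow_mul, ← h4,
          pow_orderOf_eq_one, one_pow, mul_one, mul_inv_cancel])
      show s ∈ d.dih
      by_cases h1 : s = 1
      · rw [h1]; exact one_mem _
      rcases d.orderOf_eq_two_cases (Involution.orderOf_of_sq hs h1) with e | ⟨j, e⟩
      · rw [e]
        obtain ⟨p, hp⟩ := Transfer.SD.half_even d
        exact d.mem_dih.2 ⟨p, Or.inl (by rw [hp])⟩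
      · rw [e]; exact d.mem_dih.2 ⟨j, Or.inr rfl⟩
    · rw [hk.neg_one_pow]
      refine hl2 _ ?_
      have h14 : v ^ k = v ∨ v ^ k = v⁻¹ := by
        rw [← pow_mod_orderOf, h4]
        obtain ⟨m, rfl⟩ := hk
        rcases (show (2 * m + 1) % 4 = 1 ∨ (2 * m + 1) % 4 = 3 by omega) with e | e <;> rw [e]
        · exact Or.inl (pow_one v)
        · refine Or.inr (eq_inv_of_mul_eq_one_left ?_)
          rw [← pow_succ, show 3 + 1 = orderOf v by rw [h4], pow_orderOf_eq_one]
      rcases h14 with e | e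
      · exact key4 _ a (by show a * v ^ k * a⁻¹ = _; rw [e])
      · intro hmem
        refine key4 (⟨_, hm⟩ : (P : Subgroup G))⁻¹ a ?_ (inv_mem hmem)
        show (a * v ^ k * a⁻¹)⁻¹ = _
        rw [e]; group
  have htr := TwoFusion.transfer_eq_pow_of_controlled φ ⟨v, hvP⟩ hkey
  have hne : MonoidHom.transfer φ v ≠ 1 := by
    intro h
    rw [htr] at h
    have h' := congrArg Units.val h
    rw [Units.val_pow_eq_pow_val, hφv, Units.val_one] at h'
    have hodd : Odd (P : Subgroup G).index := Nat.not_even_iff_odd.1 fun he =>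
      P.not_dvd_index (even_iff_two_dvd.1 he)
    rw [hodd.neg_one_pow] at h'
    norm_num at h'
  rcases (MonoidHom.transfer φ).normal_ker.eq_bot_or_eq_top with e | e
  · exact hG ⟨⟨fun a b => (MonoidHom.ker_eq_bot_iff _).1 e (by rw [map_mul, map_mul, mul_comm])⟩⟩
  · exact hne (MonoidHom.mem_ker.1 (e ▸ mem_top v))

theorem exists_hyp (hG : ¬ IsMulCommutative G) {v : G} (h4 : orderOf v = 4)
    (hcent : ∀ g : G, g * v = v * g → g ∈ zpowers v) :
    ∃ (P : Sylow 2 G) (τ : G), Hyp P v τ := by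
  haveI := Fact.mk Nat.prime_two
  obtain ⟨P, hP⟩ := (IsPGroup.of_card (n := 2) (p := 2) (G := zpowers v)
    (by rw [Nat.card_zpowers, h4]; norm_num)).exists_le_sylow
  have hvP : v ∈ (P : Subgroup G) := hP (mem_zpowers v)
  refine ⟨P, ?_⟩
  obtain ⟨n, hn⟩ := IsPGroup.iff_card.1 P.isPGroup'
  have h2G : 2 ∣ Nat.card G := two_dvd_of_orderOf (g := v) (by rw [h4]; norm_num)
  set A : Subgroup (P : Subgroup G) := zpowers ⟨v, hvP⟩ with hAdef
  have hA : Nat.card A = 2 ^ 2 := by rw [Nat.card_zpowers, orderOf_mk, h4]; norm_num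
  have hn2 : 2 ≤ n := by
    have h := Nat.le_of_dvd Nat.card_pos A.card_subgroup_dvd_card
    rw [hA, hn] at h
    exact (Nat.pow_le_pow_iff_right (by norm_num)).1 h
  by_cases hn3 : 3 ≤ n
  swap
  · exfalso
    refine not_cyclic_sylow hG h2G P (isCyclic_of_orderOf_eq_card ⟨v, hvP⟩ ?_)
    rw [orderOf_mk, h4, hn, show n = 2 by omega]; norm_num
  have hC : centralizer (A : Set (P : Subgroup G)) = A := by
    refine le_antisymm (fun g hg => ?_) ?_
    · have := congrArg Subtype.val (mem_centralizer_iff.1 hg _ (mem_zpowers _)).symm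
      obtain ⟨k, hk⟩ := mem_zpowers_iff.1 (hcent g this)
      exact mem_zpowers_iff.2 ⟨k, Subtype.ext (by rw [SubgroupClass.coe_zpow]; exact hk)⟩
    · intro g hg
      refine mem_centralizer_iff.2 fun x hx => ?_
      exact congrArg Subtype.val (IsMulCommutative.is_comm.comm (⟨x, hx⟩ : A) ⟨g, hg⟩)
  have hcl := PGroup.maximal_class_of_selfCentralizing n (P : Subgroup G) hn A hA hC
  have hlcs := PGroup.card_lcs_of_maximal_class hn3 hn hcl (i := 1) le_rfl (by omega)
  rw [top_lowerCentralSeries_one] at hlcs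
  have hidx : (_root_.commutator (P : Subgroup G)).index = 4 := by
    have h := (_root_.commutator (P : Subgroup G)).card_mul_index
    rw [hlcs, hn, show 2 ^ n = 2 ^ (n - 1 - 1) * 4 by
      rw [show (4 : ℕ) = 2 ^ 2 from rfl, ← pow_add]; congr 1; omega] at h
    exact Nat.eq_of_mul_eq_mul_left (by positivity) h
  have h4S : Nat.card (P : Subgroup G) ≠ 4 := by
    rw [hn]
    have := Nat.pow_le_pow_right (show 0 < 2 by norm_num) hn3
    omega
  rcases TwoGroupRecog.classify_of_index_commutator P.isPGroup' hidx h4S with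
    ⟨k, ⟨e⟩⟩ | ⟨k, hk, a, b, ha, hb, hab⟩ | ⟨k, ⟨e⟩⟩
  · rcases Nat.eq_zero_or_pos k with rfl | hk
    · obtain ⟨t, htP, ht⟩ : ∃ t ∈ (P : Subgroup G), t ∉ zpowers v := by
        by_contra hcon
        push Not at hcon
        have := Nat.le_of_dvd Nat.card_pos (card_dvd_of_le (fun x hx => hcon x hx))
        rw [Nat.card_zpowers, h4, hn] at this
        have := Nat.pow_le_pow_right (show 0 < 2 by norm_num) hn3
        omega
      exact ⟨t, ⟨⟨e⟩, hvP, h4, htP, ht, hcent⟩⟩
    · exfalso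
      have hm : 8 ≤ 2 ^ (k + 2) :=
        (show (8 : ℕ) = 2 ^ 3 by norm_num).le.trans (Nat.pow_le_pow_right (by norm_num) (by omega))
      set d := e ⟨v, hvP⟩ with hd
      have hd4 : orderOf d = 4 := by rw [hd, MulEquiv.orderOf_eq, orderOf_mk, h4]
      cases hdc : d with
      | sr i => rw [hdc, DihedralGroup.orderOf_sr] at hd4; norm_num at hd4
      | r i =>
        have hc : e.symm (DihedralGroup.r 1) * ⟨v, hvP⟩ = ⟨v, hvP⟩ * e.symm (DihedralGroup.r 1) := by
          apply e.injective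
          rw [map_mul, map_mul, e.apply_symm_apply, ← hd, hdc, DihedralGroup.r_mul_r,
            DihedralGroup.r_mul_r, add_comm (1 : ZMod (2 ^ (k + 2))) i]
        have := orderOf_dvd_four h4 hcent (congrArg Subtype.val hc)
        rw [orderOf_coe, MulEquiv.orderOf_eq, DihedralGroup.orderOf_r_one] at this
        have := Nat.le_of_dvd (by norm_num) this
        omega
  · exact absurd (show False from not_semidihedral hG P
      ⟨a, b, (by omega : 3 ≤ k + 3), hk, ha, hb, (by
        rw [hab, show k + 3 - 1 = k + 2 by omega])⟩ hvP h4 hcent) id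
  · exact (not_quaternion hG P e).elim

end Cfsg.Agent.CentFour
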