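import Cfsg.Agent.Lib.CentFour.Counts
import Cfsg.Agent.Lib.Involution.KleinFour

/-!
# Conjugacy of involutions in the presence of `Hyp`
-/

set_option autoImplicit false
set_option linter.unusedSectionVars false

namespace Cfsg.Agent.CentFour

open Cfsg Subgroup

variable {G : Type*} [Group G] [Finite G]

theorem zpowers_sq {g x : G} (hg : g * g = 1) (hx : x ∈ zpowers g) : x = 1 ∨ x = g := by
  obtain ⟨k, rfl⟩ := mem_zpowers_iff.1 hx
  have h2 : g ^ (2 : ℤ) = 1 := by rw [show (2 : ℤ) = ((2 : ℕ) : ℤ) from rfl, zpow_natCast, pow_two, hg]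
  rcases Int.even_or_odd k with ⟨m, rfl⟩ | ⟨m, rfl⟩
  · left; rw [← two_mul, zpow_mul, h2, one_zpow]
  · right; rw [zpow_add, zpow_one, zpow_mul, h2, one_zpow, one_mul]

namespace Hyp

variable {P : Sylow 2 G} {v τ : G} (h : Hyp P v τ)
include h

theorem v_conj_τ : v * τ * v⁻¹ = v * v * τ := by
  calc v * τ * v⁻¹ = v * τ * (τ * v * τ) := by rw [h.τv]
    _ = v * (τ * τ) * v * τ := by group
    _ = v * v * τ := by rw [h.τ_sq, mul_one]

theorem v_conj_y : v * (v * τ) * v⁻¹ = v * v * (v * τ) := by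
  calc v * (v * τ) * v⁻¹ = v * (v * τ * v⁻¹) := by group
    _ = v * (v * v * τ) := by rw [h.v_conj_τ]
    _ = v * v * (v * τ) := by group

theorem τ_mul_v : τ * v = v * v * (v * τ) := by
  calc τ * v = (τ * v * τ) * τ := by rw [mul_assoc, h.τ_sq, mul_one]
    _ = v * v * (v * τ) := by rw [h.τv, h.v_inv, mul_assoc (v * v)]

theorem isConj_τ_zτ : IsConj τ (v * v * τ) := isConj_iff.mpr ⟨v, h.v_conj_τ⟩

theorem exists_sqrt {k : G} (hk : k ∈ Oz v) : ∃ m : ℕ, k ^ m * k ^ m = k := by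
  obtain ⟨m, hm⟩ := h.odd_O
  refine ⟨m + 1, ?_⟩
  have h1 : k ^ Nat.card (Oz v) = 1 := by
    have h2 : (⟨k, hk⟩ : Oz v) ^ Nat.card (Oz v) = 1 := pow_card_eq_one'
    exact congrArg Subtype.val h2
  rw [← pow_add, show m + 1 + (m + 1) = (2 * m + 1) + 1 by omega, ← hm, pow_succ, h1, one_mul]

theorem exists_conj_coset2 {x : G} (hx : x ∈ coset2 v τ) :
    ∃ c ∈ Oz v, x = c * τ * c⁻¹ ∨ x = c * (v * v * τ) * c⁻¹ := by
  obtain ⟨k, hk, hx⟩ := hx
  obtain ⟨m, hm⟩ := h.exists_sqrt hk.1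
  obtain ⟨hcO, hc⟩ := h.mem_K_y.1 (pow_mem hk m)
  have hz : v * v * τ * (v * v * τ) = 1 := by
    rw [show v * v * τ * (v * v * τ) = v * v * (τ * (v * v)) * τ by group, ← (h.commute_z h.τP).eq,
      ← mul_assoc (v * v), h.zz, one_mul, h.τ_sq]
  have key : ∀ r : G, r * r = 1 → r * k ^ m * r = (k ^ m)⁻¹ → k * r = k ^ m * r * (k ^ m)⁻¹ := by
    intro r hr hrc
    rw [← hrc, show k ^ m * r * (r * k ^ m * r) = k ^ m * (r * r) * k ^ m * r by group, hr,
      mul_one, hm]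
  refine ⟨k ^ m, hcO, ?_⟩
  rcases hx with rfl | rfl
  · exact Or.inl (key τ h.τ_sq hc)
  · refine Or.inr (key _ hz ?_)
    rw [h.conj_z_mul h.τP hcO, hc]

theorem isConj_coset2 {x : G} (hx : x ∈ coset2 v τ) : IsConj τ x := by
  obtain ⟨c, -, e | e⟩ := h.exists_conj_coset2 hx
  · exact isConj_iff.mpr ⟨c, e.symm⟩
  · exact h.isConj_τ_zτ.trans (isConj_iff.mpr ⟨c, e.symm⟩)

theorem isConj_cases {t : G} (ht : orderOf t = 2) :
    IsConj (v * v) t ∨ IsConj τ t ∨ IsConj (v * τ) t := by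
  obtain ⟨g, hg⟩ := Involution.exists_conj_mem_sylow P ht
  have h2 : orderOf (g * t * g⁻¹) = 2 := by rw [Involution.orderOf_conj, ht]
  have back : ∀ x, IsConj x (g * t * g⁻¹) → IsConj x t := fun x hx =>
    hx.trans (isConj_iff.mpr ⟨g⁻¹, by group⟩)
  rcases h.mem_P_cases hg with e | e | e | e | e | e | e | e
  · rw [e, orderOf_one] at h2; exact absurd h2 (by norm_num)
  · rw [e, h.v4] at h2; exact absurd h2 (by norm_num)
  · exact Or.inl (back _ (e ▸ IsConj.refl _))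
  · rw [e, ← h.v_inv, orderOf_inv, h.v4] at h2; exact absurd h2 (by norm_num)
  · exact Or.inr (Or.inl (back _ (e ▸ IsConj.refl _)))
  · exact Or.inr (Or.inl (back _ (e ▸ h.isConj_τ_zτ)))
  · exact Or.inr (Or.inr (back _ (e ▸ IsConj.refl _)))
  · exact Or.inr (Or.inr (back _ (e ▸ isConj_iff.mpr ⟨v, h.v_conj_y⟩)))

theorem sq_rot {k : G} (hk : k ∈ Oz v) :
    k * v * (k * v) = v * v ∧ k * (v * v * v) * (k * (v * v * v)) = v * v := by
  have h1 : k * v * (k * v) = v * v := by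
    rw [show k * v * (k * v) = k * (v * k * v⁻¹) * (v * v) by group, h.v_inverts hk, mul_inv_cancel,
      one_mul]
  refine ⟨h1, ?_⟩
  have hzk := h.commute_O hk
  have hzv : Commute (v * v) v := ((Commute.refl v).mul_left (Commute.refl v))
  have hz : Commute (v * v) (k * v) := hzk.mul_right hzv
  rw [show k * (v * v * v) = k * (v * v) * v by group, ← hzk.eq, mul_assoc (v * v) k v,
    show v * v * (k * v) * (v * v * (k * v)) = v * v * (k * v * (v * v)) * (k * v) by group, ← hz.eq,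
    ← mul_assoc (v * v) (v * v), h.zz, one_mul, h1]

/-- An element of the normalizer of `⟨v * v, τ⟩` moving `v * v` to `τ`. -/
theorem exists_fusion (hc : IsConj (v * v) τ) :
    ∃ m : G, m * (v * v) * m⁻¹ = τ ∧ m * τ * m⁻¹ = v * v * τ := by
  obtain ⟨g, hg⟩ := isConj_iff.mp hc
  set u := g⁻¹ * (v * v) * g with hu
  have hgu : g * u * g⁻¹ = v * v := by rw [hu]; group
  have hcomm : u * (v * v) = v * v * u := by
    have h1 : v * v * τ = τ * (v * v) := (h.commute_z h.τP).eq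
    calc u * (v * v) = g⁻¹ * (v * v * (g * (v * v) * g⁻¹)) * g := by rw [hu]; group
      _ = g⁻¹ * ((g * (v * v) * g⁻¹) * (v * v)) * g := by rw [hg, h1]
      _ = v * v * u := by rw [hu]; group
  have huu : u * u = 1 := by
    rw [hu, show g⁻¹ * (v * v) * g * (g⁻¹ * (v * v) * g) = g⁻¹ * (v * v * (v * v)) * g by group,
      h.zz]
    group
  obtain ⟨c, hcC, hcu⟩ : ∃ c, c * (v * v) * c⁻¹ = v * v ∧ c * u * c⁻¹ = v * v * u := by
    have key : ∀ {τ' : G}, Hyp P v τ' → u ∈ coset2 v τ' →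
        ∃ c, c * (v * v) * c⁻¹ = v * v ∧ c * u * c⁻¹ = v * v * u := by
      intro τ' h' hu'
      obtain ⟨k, hk, hu'⟩ := hu'
      obtain ⟨hkO, hkτ⟩ := h'.mem_K_y.1 hk
      refine ⟨k * v, ?_, ?_⟩
      · rw [show k * v * (v * v) * (k * v)⁻¹ = k * (v * v) * k⁻¹ by group, ← (h'.commute_O hkO).eq,
          mul_inv_cancel_right]
      have main : ∀ r : G, r * r = 1 → r * k * r = k⁻¹ → v * r * v⁻¹ = v * v * r →
          k * v * (k * r) * (k * v)⁻¹ = v * v * (k * r) := by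
        intro r hr hrk hvr
        calc k * v * (k * r) * (k * v)⁻¹ = k * (v * k * v⁻¹) * (v * r * v⁻¹) * k⁻¹ := by group
          _ = v * v * (r * k⁻¹) := by rw [h'.v_inverts hkO, mul_inv_cancel, one_mul, hvr]; group
          _ = v * v * (k * r) := by
            rw [← hrk, show r * (r * k * r) = (r * r) * k * r by group, hr, one_mul]
      have hzt : v * v * τ' * (v * v * τ') = 1 := by
        rw [show v * v * τ' * (v * v * τ') = v * v * (τ' * (v * v)) * τ' by group,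
          ← (h'.commute_z h'.τP).eq, ← mul_assoc (v * v), h'.zz, one_mul, h'.τ_sq]
      rcases hu' with e | e <;> rw [e]
      · exact main τ' h'.τ_sq hkτ h'.v_conj_τ
      · refine main _ hzt (by rw [h'.conj_z_mul h'.τP hkO, hkτ]) ?_
        calc v * (v * v * τ') * v⁻¹ = v * v * (v * τ' * v⁻¹) := by group
          _ = v * v * (v * v * τ') := by rw [h'.v_conj_τ]
    rcases h.involution_cases (x := u) (mem_centralizer_singleton_iff.mpr hcomm) huu with e | e | e | e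
    · exfalso
      rw [e, mul_one, mul_inv_cancel] at hgu
      exact Involution.ne_one h.z_ord hgu.symm
    · exfalso
      rw [e] at hgu
      exact h.τ_ne_z (hg.symm.trans hgu)
    · exact key h e
    · exact key h.symm e
  have hzt : v * v * τ = τ * (v * v) := (h.commute_z h.τP).eq
  refine ⟨v * (g * c * g⁻¹), ?_, ?_⟩
  · have e1 : g * c * g⁻¹ * (v * v) * (g * c * g⁻¹)⁻¹ = v * v * τ := by
      calc g * c * g⁻¹ * (v * v) * (g * c * g⁻¹)⁻¹ = g * (c * u * c⁻¹) * g⁻¹ := by rw [hu]; group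
        _ = (g * (v * v) * g⁻¹) * (g * u * g⁻¹) := by rw [hcu]; group
        _ = v * v * τ := by rw [hg, hgu, hzt]
    calc v * (g * c * g⁻¹) * (v * v) * (v * (g * c * g⁻¹))⁻¹
        = v * (g * c * g⁻¹ * (v * v) * (g * c * g⁻¹)⁻¹) * v⁻¹ := by group
      _ = v * v * (v * τ * v⁻¹) := by rw [e1]; group
      _ = τ := by rw [h.v_conj_τ, ← mul_assoc, h.zz, one_mul]
  · have e2 : g * c * g⁻¹ * τ * (g * c * g⁻¹)⁻¹ = τ := by
      calc g * c * g⁻¹ * τ * (g * c * g⁻¹)⁻¹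
          = g * c * g⁻¹ * (g * (v * v) * g⁻¹) * (g * c * g⁻¹)⁻¹ := by rw [hg]
        _ = g * (c * (v * v) * c⁻¹) * g⁻¹ := by group
        _ = τ := by rw [hcC, hg]
    calc v * (g * c * g⁻¹) * τ * (v * (g * c * g⁻¹))⁻¹
        = v * (g * c * g⁻¹ * τ * (g * c * g⁻¹)⁻¹) * v⁻¹ := by group
      _ = v * v * τ := by rw [e2, h.v_conj_τ]

end Hyp

end Cfsg.Agent.CentFour
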