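import Cfsg.Agent.Lib.CentFour.Setup

/-!
# Orders and involutions in the centraliser of the central involution
-/

set_option autoImplicit false

namespace Cfsg.Agent.CentFour

open Cfsg Subgroup

variable {G : Type*} [Group G] [Finite G]

/-- The involutions of `Cz v` in the cosets of the odd part through `τ` and `v * v * τ`. -/
def coset2 (v τ : G) : Set G := {x | ∃ k ∈ K v (v * τ), x = k * τ ∨ x = k * (v * v * τ)}

namespace Hyp

variable {P : Sylow 2 G} {v τ : G} (h : Hyp P v τ)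
include h

theorem card_P : Nat.card (P : Subgroup G) = 8 := by
  obtain ⟨e⟩ := h.iso
  rw [Nat.card_congr e.toEquiv, DihedralGroup.nat_card]

theorem card_Cz : Nat.card (Cz v) = 8 * Nat.card (Oz v) := by
  rw [mul_comm, ← h.card_P, ← Nat.card_prod]
  refine (Nat.card_congr (Equiv.ofBijective
    (fun q : Oz v × (P : Subgroup G) => (⟨(q.1 : G) * q.2,
      mul_mem (h.mem_O.1 q.1.2).1 (h.P_le q.2.2)⟩ : Cz v)) ⟨?_, ?_⟩)).symm
  · rintro ⟨⟨a, ha⟩, ⟨b, hb⟩⟩ ⟨⟨a', ha'⟩, ⟨b', hb'⟩⟩ e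
    obtain ⟨rfl, rfl⟩ := h.decomp_unique ha ha' hb hb' (congrArg Subtype.val e)
    rfl
  · rintro ⟨g, hg⟩
    obtain ⟨k, hk, p, hp, e⟩ := h.exists_decomp hg
    exact ⟨(⟨k, hk⟩, ⟨p, hp⟩), Subtype.ext e.symm⟩

theorem τ_ne_z : τ ≠ v * v := fun e => h.τnot (e ▸ mul_mem (mem_zpowers v) (mem_zpowers v))

theorem zτ_ne_τ : v * v * τ ≠ τ := fun e => Involution.ne_one h.z_ord (mul_eq_right.1 e)

theorem τ_conj_P {p : G} (hp : p ∈ (P : Subgroup G)) (hc : τ * p * τ = p) :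
    p = 1 ∨ p = v * v ∨ p = τ ∨ p = v * v * τ := by
  rw [← h.midRot_eq]
  refine h.data.commute_refl_cases h.τP h.τnot hp ?_
  show p * τ = τ * p
  conv_lhs => rw [← hc]
  rw [mul_assoc, h.τ_sq, mul_one]

theorem τ_conj_mul (a b : G) : τ * (a * b) * τ = (τ * a * τ) * (τ * b * τ) := by
  rw [show (τ * a * τ) * (τ * b * τ) = τ * a * (τ * τ) * b * τ by group, h.τ_sq, mul_one,
    mul_assoc τ a b]

theorem τ_conj_memP {p : G} (hp : p ∈ (P : Subgroup G)) : τ * p * τ ∈ (P : Subgroup G) :=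
  mul_mem (mul_mem h.τP hp) h.τP

theorem mem_Cz_inf {g : G} : g ∈ Cz v ⊓ centralizer ({τ} : Set G) ↔
    ∃ k ∈ K v τ, g = k ∨ g = k * (v * v) ∨ g = k * τ ∨ g = k * (v * v * τ) := by
  constructor
  · rintro ⟨hg, hgτ⟩
    obtain ⟨k, hk, p, hp, rfl⟩ := h.exists_decomp hg
    have e : τ * (k * p) * τ = k * p := by
      have h1 : k * p * τ = τ * (k * p) := mem_centralizer_singleton_iff.mp hgτ
      rw [← h1, mul_assoc (k * p), h.τ_sq, mul_one]
    rw [h.τ_conj_mul] at e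
    obtain ⟨e1, e2⟩ := h.decomp_unique (h.τ_conj_mem hk) hk (h.τ_conj_memP hp) hp e
    refine ⟨k, h.mem_K.2 ⟨hk, e1⟩, ?_⟩
    rcases h.τ_conj_P hp e2 with rfl | rfl | rfl | rfl <;> simp
  · rintro ⟨k, hk, hg⟩
    have h1 : k ∈ Cz v ⊓ centralizer ({τ} : Set G) := ⟨(h.mem_O.1 hk.1).1, hk.2⟩
    have h2 : v * v ∈ Cz v ⊓ centralizer ({τ} : Set G) :=
      ⟨h.P_le h.zP, mem_centralizer_singleton_iff.mpr (h.commute_z h.τP).eq⟩
    have h3 : τ ∈ Cz v ⊓ centralizer ({τ} : Set G) :=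
      ⟨h.P_le h.τP, mem_centralizer_singleton_iff.mpr rfl⟩
    rcases hg with rfl | rfl | rfl | rfl
    exacts [h1, mul_mem h1 h2, mul_mem h1 h3, mul_mem h1 (mul_mem h2 h3)]

theorem card_Cz_inf :
    Nat.card (Cz v ⊓ centralizer ({τ} : Set G) : Subgroup G) = 4 * Nat.card (K v τ) := by
  classical
  set S : Finset G := {1, v * v, τ, v * v * τ} with hS
  have hSP : ∀ s ∈ S, s ∈ (P : Subgroup G) := by
    intro s hs
    simp only [hS, Finset.mem_insert, Finset.mem_singleton] at hs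
    rcases hs with rfl | rfl | rfl | rfl
    exacts [one_mem _, h.zP, h.τP, mul_mem h.zP h.τP]
  have hcard : S.card = 4 := by
    have hz := Involution.ne_one h.z_ord
    have hτ := Involution.ne_one h.τ_ord
    have h1 : v * v * τ ≠ 1 := fun e => h.τ_ne_z
      (by rw [eq_inv_of_mul_eq_one_right e, Involution.inv_eq h.z_ord])
    have h2 : v * v ≠ v * v * τ := fun e => hτ (left_eq_mul.1 e)
    rw [hS, Finset.card_insert_of_notMem (by simp [hz.symm, hτ.symm, h1.symm]),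
      Finset.card_insert_of_notMem (by simp [h.τ_ne_z.symm, h2]),
      Finset.card_insert_of_notMem (by simp [h.zτ_ne_τ.symm]), Finset.card_singleton]
  have hS4 : ∀ {k g : G}, g = k ∨ g = k * (v * v) ∨ g = k * τ ∨ g = k * (v * v * τ) ↔
      ∃ s ∈ S, g = k * s := by
    intro k g
    simp [hS]
  rw [mul_comm, ← hcard, ← Nat.card_eq_finsetCard S, ← Nat.card_prod]
  refine (Nat.card_congr (Equiv.ofBijective
    (fun q : K v τ × S => (⟨(q.1 : G) * q.2, h.mem_Cz_inf.2 ⟨q.1, q.1.2,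
      hS4.2 ⟨q.2, q.2.2, rfl⟩⟩⟩ : (Cz v ⊓ centralizer ({τ} : Set G) : Subgroup G))) ⟨?_, ?_⟩)).symm
  · rintro ⟨⟨a, ha⟩, ⟨b, hb⟩⟩ ⟨⟨a', ha'⟩, ⟨b', hb'⟩⟩ e
    obtain ⟨rfl, rfl⟩ := h.decomp_unique ha.1 ha'.1 (hSP b hb) (hSP b' hb') (congrArg Subtype.val e)
    rfl
  · rintro ⟨g, hg⟩
    obtain ⟨k, hk, hg'⟩ := h.mem_Cz_inf.1 hg
    obtain ⟨s, hs, e⟩ := hS4.1 hg'
    exact ⟨(⟨k, hk⟩, ⟨s, hs⟩), Subtype.ext e.symm⟩

theorem conj_z_mul {r k : G} (hr : r ∈ (P : Subgroup G)) (hk : k ∈ Oz v) :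
    v * v * r * k * (v * v * r) = r * k * r := by
  have hz := h.zz
  have h1 := (h.commute_z hr).eq
  have h2 := (h.commute_O hk).eq
  generalize v * v = z at hz h1 h2 ⊢
  calc z * r * k * (z * r) = r * (z * k) * (z * r) := by rw [h1, mul_assoc r z k]
    _ = r * k * (z * z) * r := by rw [h2]; group
    _ = r * k * r := by rw [hz, mul_one]

theorem commute_z_K {k : G} (hk : k ∈ K v (v * τ)) : Commute (v * v) k := h.commute_O hk.1

theorem coset2_sub {x : G} (hx : x ∈ coset2 v τ) : x ∈ Cz v ∧ orderOf x = 2 ∧ x ≠ v * v := by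
  obtain ⟨k, hk, hx⟩ := hx
  obtain ⟨hkO, hkτ⟩ := h.mem_K_y.1 hk
  have key : ∀ r, r ∈ (P : Subgroup G) → r * r = 1 → r ∉ zpowers v → r * k * r = k⁻¹ →
      k * r ∈ Cz v ∧ orderOf (k * r) = 2 ∧ k * r ≠ v * v := by
    intro r hr hrr hrR hc
    have hne : ∀ w ∈ zpowers v, k * r ≠ w := fun w hw e => hrR (by
      have h2 := h.decomp_unique hkO (one_mem _) hr (h.data.zpowers_le hw) (e.trans (one_mul w).symm)
      rw [h2.2]; exact hw)
    refine ⟨mul_mem (h.mem_O.1 hkO).1 (h.P_le hr), Involution.orderOf_of_sq ?_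
      (hne 1 (one_mem _)), hne _ (mul_mem (mem_zpowers v) (mem_zpowers v))⟩
    rw [show k * r * (k * r) = k * (r * k * r) by group, hc, mul_inv_cancel]
  have hzt : v * v * τ ∉ zpowers v := fun e => h.τnot (by
    have := mul_mem (inv_mem (mul_mem (mem_zpowers v) (mem_zpowers v))) e
    rwa [inv_mul_cancel_left] at this)
  rcases hx with rfl | rfl
  · exact key τ h.τP h.τ_sq h.τnot hkτ
  · refine key _ (mul_mem h.zP h.τP) ?_ hzt ?_
    · exact h.data.sq_eq_one (mul_mem h.zP h.τP) hzt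
    · rw [h.conj_z_mul h.τP hkO, hkτ]

theorem card_coset2 : Nat.card (coset2 v τ) = 2 * Nat.card (K v (v * τ)) := by
  classical
  set S : Finset G := {τ, v * v * τ} with hS
  have hcard : S.card = 2 := by
    rw [hS, Finset.card_insert_of_notMem (by simp [h.zτ_ne_τ.symm]), Finset.card_singleton]
  have hSP : ∀ s ∈ S, s ∈ (P : Subgroup G) := by
    intro s hs
    simp only [hS, Finset.mem_insert, Finset.mem_singleton] at hs
    rcases hs with rfl | rfl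
    exacts [h.τP, mul_mem h.zP h.τP]
  rw [mul_comm, ← hcard, ← Nat.card_eq_finsetCard S, ← Nat.card_prod]
  refine (Nat.card_congr (Equiv.ofBijective
    (fun q : K v (v * τ) × S => (⟨(q.1 : G) * q.2, q.1, q.1.2, by
      have := q.2.2
      simp only [hS, Finset.mem_insert, Finset.mem_singleton] at this
      rcases this with e | e <;> simp [e]⟩ : coset2 v τ)) ⟨?_, ?_⟩)).symm
  · rintro ⟨⟨a, ha⟩, ⟨b, hb⟩⟩ ⟨⟨a', ha'⟩, ⟨b', hb'⟩⟩ e
    obtain ⟨rfl, rfl⟩ := h.decomp_unique ha.1 ha'.1 (hSP b hb) (hSP b' hb') (congrArg Subtype.val e)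
    rfl
  · rintro ⟨g, k, hk, hg⟩
    rcases hg with rfl | rfl
    · exact ⟨(⟨k, hk⟩, ⟨τ, by simp [hS]⟩), rfl⟩
    · exact ⟨(⟨k, hk⟩, ⟨v * v * τ, by simp [hS]⟩), rfl⟩

theorem involution_cases {x : G} (hx : x ∈ Cz v) (h2 : x * x = 1) :
    x = 1 ∨ x = v * v ∨ x ∈ coset2 v τ ∨ x ∈ coset2 v (v * τ) := by
  obtain ⟨k, hk, p, hp, rfl⟩ := h.exists_decomp hx
  have hkp : p * k * p⁻¹ ∈ Oz v := h.conj_O (h.P_le hp) hk
  have e : k * (p * k * p⁻¹) * (p * p) = 1 * 1 := by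
    rw [one_mul, ← h2]; group
  obtain ⟨e1, e2⟩ := h.decomp_unique (mul_mem hk hkp) (one_mem _) (mul_mem hp hp) (one_mem _) e
  have hc : p * k * p = k⁻¹ := by
    rw [show p * k * p = p * k * p⁻¹ by rw [inv_eq_of_mul_eq_one_right e2]]
    exact eq_inv_of_mul_eq_one_right e1
  have hvy : v * (v * τ) = v * v * τ := (mul_assoc v v τ).symm
  have hy : v * v * (v * τ) ∈ (P : Subgroup G) := mul_mem h.zP (mul_mem h.vP h.τP)
  have hz0 : ∀ r : G, r * r = 1 → Commute r k → r * k * r = k⁻¹ → k = 1 := by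
    intro r hr hrk hh
    rw [hrk.eq, mul_assoc, hr, mul_one] at hh
    by_contra hne
    have := (h.mem_O.1 hk).2
    rw [Involution.orderOf_of_sq (eq_inv_iff_mul_eq_one.1 hh) hne] at this
    exact absurd this (by decide)
  have hv2 : v * v ≠ 1 := Involution.ne_one h.z_ord
  rcases h.mem_P_cases hp with rfl | rfl | rfl | rfl | rfl | rfl | rfl | rfl
  · left; rw [hz0 1 (one_mul 1) (Commute.one_left k) hc, one_mul]
  · exact absurd e2 hv2
  · right; left; rw [hz0 _ h.zz (h.commute_O hk) hc, one_mul]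
  · refine absurd ?_ hv2
    calc v * v = v * v * v * (v * v * v) * (v * v * (v * v))⁻¹ := by simp [mul_assoc]
      _ = 1 := by rw [e2, h.zz, inv_one, mul_one]
  · exact Or.inr (Or.inr (Or.inl ⟨k, h.mem_K_y.2 ⟨hk, hc⟩, Or.inl rfl⟩))
  · refine Or.inr (Or.inr (Or.inl ⟨k, h.mem_K_y.2 ⟨hk, ?_⟩, Or.inr rfl⟩))
    rwa [h.conj_z_mul h.τP hk] at hc
  · exact Or.inr (Or.inr (Or.inr ⟨k, h.symm.mem_K_y.2 ⟨hk, hc⟩, Or.inl rfl⟩))
  · refine Or.inr (Or.inr (Or.inr ⟨k, h.symm.mem_K_y.2 ⟨hk, ?_⟩, Or.inr rfl⟩))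
    rwa [h.conj_z_mul (mul_mem h.vP h.τP) hk] at hc

theorem inverts_cases {x : G} (hx : x * x = 1) (hv : x * v * x = v⁻¹) :
    x = τ ∨ x = v * v * τ ∨ x = v * τ ∨ x = v * v * (v * τ) := by
  have hc : x * τ * v = v * (x * τ) := by
    calc x * τ * v = x * (τ * v * τ) * τ := by
          rw [mul_assoc x (τ * v * τ), mul_assoc (τ * v) τ, h.τ_sq, mul_one, mul_assoc]
      _ = x * v⁻¹ * τ := by rw [h.τv]
      _ = x * (x * v * x) * τ := by rw [hv]
      _ = v * (x * τ) := by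
        rw [show x * (x * v * x) * τ = (x * x) * v * x * τ by group, hx, one_mul, mul_assoc]
  rcases h.mem_rot (h.cent _ hc) with e | e | e | e
  · left; rw [eq_inv_of_mul_eq_one_left e, h.τ_inv]
  · refine Or.inr (Or.inr (Or.inl ?_))
    rw [← e, mul_assoc, h.τ_sq, mul_one]
  · refine Or.inr (Or.inl ?_)
    rw [← e, mul_assoc, h.τ_sq, mul_one]
  · refine Or.inr (Or.inr (Or.inr ?_))
    rw [← mul_assoc (v * v), ← e, mul_assoc, h.τ_sq, mul_one]

end Hyp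

end Cfsg.Agent.CentFour
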