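import Cfsg.Agent.EqLemmas
import Cfsg.Agent.Lib.SecondMain.DihedralSylow
import Cfsg.Agent.Lib.Transfer.Residual
import Cfsg.Agent.Lib.Involution.Basic

/-!
# A dihedral Sylow 2-subgroup of order eight with a self-centralising element of order four

`Hyp P v τ` : `P = ⟨v, τ⟩` is dihedral of order eight and `C(v) = ⟨v⟩`.  The odd part `O` of the
centraliser of `v * v` is abelian and inverted by `v`, and `|O| = |K v τ| * |K v (v * τ)|`.
-/

set_option autoImplicit false

namespace Cfsg.Agent.CentFour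

open Cfsg Subgroup

variable {G : Type*} [Group G] [Finite G]

/-- The hypotheses. -/
structure Hyp (P : Sylow 2 G) (v τ : G) : Prop where
  iso : Nonempty ((P : Subgroup G) ≃* DihedralGroup 4)
  vP : v ∈ (P : Subgroup G)
  v4 : orderOf v = 4
  τP : τ ∈ (P : Subgroup G)
  τnot : τ ∉ zpowers v
  cent : ∀ g : G, g * v = v * g → g ∈ zpowers v

/-- The centralizer of the central involution. -/
def Cz (v : G) : Subgroup G := centralizer ({v * v} : Set G)

/-- Its odd part. -/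
def Oz (v : G) : Subgroup G := (pResidual 2 (Cz v)).map (Cz v).subtype

/-- The fixed points of a reflection on the odd part. -/
def K (v τ : G) : Subgroup G := Oz v ⊓ centralizer ({τ} : Set G)

namespace Hyp

variable {P : Sylow 2 G} {v τ : G} (h : Hyp P v τ)
include h

theorem data : SecondMain.DihedralData P 0 v := ⟨h.iso, h.vP, h.v4⟩

theorem midRot_eq : SecondMain.midRot 0 v = v * v := by
  show v ^ 2 ^ (0 + 1) = v * v
  rw [← pow_two]
  norm_num

theorem z_ord : orderOf (v * v) = 2 := h.midRot_eq ▸ h.data.orderOf_midRot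

theorem zz : v * v * (v * v) = 1 := Involution.mul_self h.z_ord

theorem τ_sq : τ * τ = 1 := h.data.sq_eq_one h.τP h.τnot

theorem τ_ord : orderOf τ = 2 :=
  Involution.orderOf_of_sq h.τ_sq fun e => h.τnot (e ▸ one_mem _)

theorem τ_inv : τ⁻¹ = τ := Involution.inv_eq h.τ_ord

theorem τv : τ * v * τ = v⁻¹ := by
  have := h.data.conj_inv h.τP h.τnot (mem_zpowers v)
  rwa [h.τ_inv] at this

theorem zP : v * v ∈ (P : Subgroup G) := mul_mem h.vP h.vP

theorem commute_z {p : G} (hp : p ∈ (P : Subgroup G)) : Commute (v * v) p :=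
  h.midRot_eq ▸ h.data.commute_midRot hp

theorem y_ord : orderOf (v * τ) = 2 := by
  refine Involution.orderOf_of_sq (h.data.sq_eq_one (mul_mem h.vP h.τP) ?_) ?_
  · intro e
    exact h.τnot (by simpa using mul_mem (inv_mem (mem_zpowers v)) e)
  · intro e
    exact h.τnot (by rw [eq_inv_of_mul_eq_one_right e]; exact inv_mem (mem_zpowers v))

/-- The other class of reflections. -/
theorem symm : Hyp P v (v * τ) :=
  ⟨h.iso, h.vP, h.v4, mul_mem h.vP h.τP,
    fun e => h.τnot (by simpa using mul_mem (inv_mem (mem_zpowers v)) e), h.cent⟩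

theorem v_inv : v⁻¹ = v * v * v := inv_eq_of_mul_eq_one_right (by
  have := h.zz
  rwa [mul_assoc v v (v * v), ← mul_assoc v v v] at this)

theorem mem_rot {w : G} (hw : w ∈ zpowers v) : w = 1 ∨ w = v ∨ w = v * v ∨ w = v * v * v := by
  classical
  obtain ⟨k, hk, rfl⟩ : ∃ k : ℕ, k < 4 ∧ v ^ k = w := by
    rw [mem_zpowers_iff_mem_range_orderOf, Finset.mem_image] at hw
    obtain ⟨k, hk, rfl⟩ := hw
    exact ⟨k, by rw [← h.v4]; exact Finset.mem_range.1 hk, rfl⟩
  interval_cases k <;> simp [pow_succ]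

theorem mul_rot_mem {p : G} (hp : p ∈ (P : Subgroup G)) (hpR : p ∉ zpowers v) :
    τ * p ∈ zpowers v := by
  by_contra hc
  have h1 := h.data.sq_eq_one (mul_mem h.τP hp) hc
  have h2 := h.data.sq_eq_one hp hpR
  have hcom : Commute p τ := by
    have hp' : p⁻¹ = p := inv_eq_of_mul_eq_one_right h2
    have := inv_eq_of_mul_eq_one_right h1
    rw [mul_inv_rev, hp', h.τ_inv] at this
    exact this
  rcases h.data.commute_refl_cases h.τP h.τnot hp hcom with e | e | e | e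
  · exact hpR (e ▸ one_mem _)
  · exact hpR (e ▸ h.data.midRot_mem)
  · exact hc (by rw [e, h.τ_sq]; exact one_mem _)
  · refine hc ?_
    rw [e, h.midRot_eq, ← mul_assoc, ← (h.commute_z h.τP).eq, mul_assoc, h.τ_sq, mul_one]
    exact mul_mem (mem_zpowers v) (mem_zpowers v)

theorem mem_P_cases {p : G} (hp : p ∈ (P : Subgroup G)) :
    p = 1 ∨ p = v ∨ p = v * v ∨ p = v * v * v ∨
      p = τ ∨ p = v * v * τ ∨ p = v * τ ∨ p = v * v * (v * τ) := by
  by_cases hpR : p ∈ zpowers v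
  · rcases h.mem_rot hpR with e | e | e | e <;> simp [e]
  have hs : τ * (τ * p) = p := by rw [← mul_assoc, h.τ_sq, one_mul]
  have hcz : τ * (v * v) = v * v * τ := (h.commute_z h.τP).eq.symm
  have hτv : τ * v = v * v * (v * τ) := by
    calc τ * v = (τ * v * τ) * τ := by rw [mul_assoc, h.τ_sq, mul_one]
      _ = v * v * (v * τ) := by rw [h.τv, h.v_inv, mul_assoc (v * v)]
  rcases h.mem_rot (h.mul_rot_mem hp hpR) with e | e | e | e <;> rw [e] at hs
  · rw [mul_one] at hs; simp [← hs]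
  · rw [hτv] at hs; simp [← hs]
  · rw [hcz] at hs; simp [← hs]
  · refine Or.inr (Or.inr (Or.inr (Or.inr (Or.inr (Or.inr (Or.inl ?_))))))
    rw [← hs, ← mul_assoc, hcz, mul_assoc, hτv, ← mul_assoc, h.zz, one_mul]

theorem P_le : (P : Subgroup G) ≤ Cz v := fun p hp =>
  mem_centralizer_singleton_iff.mpr (h.commute_z hp).eq.symm

theorem complement : HasNormalPComplement 2 (Cz v) := by
  have := h.data.complement_mid.1
  rwa [h.midRot_eq] at this

theorem mem_O {g : G} : g ∈ Oz v ↔ g ∈ Cz v ∧ Odd (orderOf g) := by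
  haveI := Fact.mk Nat.prime_two
  constructor
  · rintro ⟨c, hc, rfl⟩
    refine ⟨c.2, ?_⟩
    have := (Transfer.mem_pResidual_iff h.complement c).1 hc
    rw [Nat.coprime_two_right, ← Subgroup.orderOf_coe] at this
    exact this
  · rintro ⟨hg, hodd⟩
    refine ⟨⟨g, hg⟩, (Transfer.mem_pResidual_iff h.complement _).2 ?_, rfl⟩
    rw [Nat.coprime_two_right, Subgroup.orderOf_mk]
    exact hodd

theorem commute_O {k : G} (hk : k ∈ Oz v) : Commute (v * v) k :=
  ((mem_centralizer_singleton_iff.mp (h.mem_O.1 hk).1)).symm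

theorem conj_O {g k : G} (hg : g ∈ Cz v) (hk : k ∈ Oz v) : g * k * g⁻¹ ∈ Oz v := by
  obtain ⟨hkC, hodd⟩ := h.mem_O.1 hk
  exact h.mem_O.2 ⟨mul_mem (mul_mem hg hkC) (inv_mem hg), by rwa [Involution.orderOf_conj]⟩

theorem odd_O : Odd (Nat.card (Oz v)) := by
  haveI := Fact.mk Nat.prime_two
  rw [Oz, card_map_of_injective (Cz v).subtype_injective, ← Nat.coprime_two_right]
  exact Transfer.hasNormalPComplement_iff_coprime.1 h.complement

theorem inf_P {k : G} (hk : k ∈ Oz v) (hp : k ∈ (P : Subgroup G)) : k = 1 := by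
  haveI := Fact.mk Nat.prime_two
  obtain ⟨e, he⟩ := IsPGroup.iff_orderOf.1 P.isPGroup' ⟨k, hp⟩
  rw [Subgroup.orderOf_mk] at he
  have hodd := (h.mem_O.1 hk).2
  rw [he] at hodd
  rcases e with _ | e
  · rwa [pow_zero, orderOf_eq_one_iff] at he
  · exact absurd hodd (Nat.not_odd_iff_even.2 (by simp [Nat.even_pow]))

theorem exists_decomp {g : G} (hg : g ∈ Cz v) :
    ∃ k ∈ Oz v, ∃ p ∈ (P : Subgroup G), g = k * p := by
  haveI := Fact.mk Nat.prime_two
  have hc := (Transfer.isComplement'_pResidual_iff (P.subtype h.P_le)).2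
    (Transfer.hasNormalPComplement_iff_coprime.1 h.complement)
  obtain ⟨⟨⟨a, ha⟩, ⟨b, hb⟩⟩, hab⟩ := hc.2 (⟨g, hg⟩ : Cz v)
  exact ⟨a, ⟨a, ha, rfl⟩, b, hb, (congrArg Subtype.val hab).symm⟩

theorem decomp_unique {k k' p p' : G} (hk : k ∈ Oz v) (hk' : k' ∈ Oz v)
    (hp : p ∈ (P : Subgroup G)) (hp' : p' ∈ (P : Subgroup G)) (e : k * p = k' * p') :
    k = k' ∧ p = p' := by
  have h1 : k'⁻¹ * k = p' * p⁻¹ := by
    rw [eq_mul_inv_iff_mul_eq, mul_assoc, e, inv_mul_cancel_left]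
  have h2 := h.inf_P (mul_mem (inv_mem hk') hk) (h1 ▸ mul_mem hp' (inv_mem hp))
  rw [inv_mul_eq_one] at h2
  exact ⟨h2.symm, by rw [h2] at e; exact mul_left_cancel e⟩

theorem v_inverts {k : G} (hk : k ∈ Oz v) : v * k * v⁻¹ = k⁻¹ := by
  have hvC : v ∈ Cz v := h.P_le h.vP
  let φ : Oz v →* Oz v :=
    { toFun := fun k => ⟨v * k * v⁻¹, h.conj_O hvC k.2⟩
      map_one' := Subtype.ext (by simp)
      map_mul' := fun a b => Subtype.ext (by simp [mul_assoc]) }
  have hfp : MonoidHom.FixedPointFree φ := fun a ha => by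
    have h1 : v * (a : G) * v⁻¹ = a := congrArg Subtype.val ha
    exact Subtype.ext (h.inf_P a.2
      (h.data.zpowers_le (h.cent _ (mul_inv_eq_iff_eq_mul.1 h1).symm)))
  have hinv : Function.Involutive φ := fun a => Subtype.ext (by
    show v * (v * (a : G) * v⁻¹) * v⁻¹ = a
    rw [show v * (v * (a : G) * v⁻¹) * v⁻¹ = v * v * a * (v * v)⁻¹ by group,
      (h.commute_O a.2).eq, mul_inv_cancel_right])
  exact congrArg Subtype.val (congrFun (hfp.coe_eq_inv_of_involutive hinv) ⟨k, hk⟩)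

theorem commute_OO {a b : G} (ha : a ∈ Oz v) (hb : b ∈ Oz v) : a * b = b * a := by
  have h1 := h.v_inverts (mul_mem (inv_mem ha) (inv_mem hb))
  rw [show v * (a⁻¹ * b⁻¹) * v⁻¹ = (v * a⁻¹ * v⁻¹) * (v * b⁻¹ * v⁻¹) by group,
    h.v_inverts (inv_mem ha), h.v_inverts (inv_mem hb)] at h1
  simpa using h1

theorem τ_conj_mem {k : G} (hk : k ∈ Oz v) : τ * k * τ ∈ Oz v := by
  have := h.conj_O (h.P_le h.τP) hk
  rwa [h.τ_inv] at this

theorem mem_K {k : G} : k ∈ K v τ ↔ k ∈ Oz v ∧ τ * k * τ = k := by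
  rw [K, Subgroup.mem_inf, mem_centralizer_singleton_iff]
  refine and_congr_right fun _ => ⟨fun e => ?_, fun e => ?_⟩
  · rw [← e, mul_assoc, h.τ_sq, mul_one]
  · calc k * τ = τ * k * τ * τ := by rw [e]
      _ = τ * k := by rw [mul_assoc, h.τ_sq, mul_one]

theorem mem_K_y {k : G} : k ∈ K v (v * τ) ↔ k ∈ Oz v ∧ τ * k * τ = k⁻¹ := by
  rw [h.symm.mem_K]
  refine and_congr_right fun hk => ?_
  have h1 : v * τ * k * (v * τ) = v * (τ * k * τ) * v⁻¹ := by
    have : v * τ = τ * v⁻¹ := by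
      calc v * τ = τ * (τ * v * τ) := by rw [← mul_assoc, ← mul_assoc, h.τ_sq, one_mul]
        _ = τ * v⁻¹ := by rw [h.τv]
    calc v * τ * k * (v * τ) = v * τ * k * (τ * v⁻¹) := by rw [this]
      _ = v * (τ * k * τ) * v⁻¹ := by group
  rw [h1, h.v_inverts (h.τ_conj_mem hk), inv_eq_iff_eq_inv]

theorem card_O : Nat.card (Oz v) = Nat.card (K v τ) * Nat.card (K v (v * τ)) := by
  rw [← Nat.card_prod]
  refine (Nat.card_congr (Equiv.ofBijective
    (fun q : K v τ × K v (v * τ) => (⟨(q.1 : G) * q.2,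
      mul_mem q.1.2.1 q.2.2.1⟩ : Oz v)) ⟨?_, ?_⟩)).symm
  · rintro ⟨⟨a, ha⟩, ⟨b, hb⟩⟩ ⟨⟨a', ha'⟩, ⟨b', hb'⟩⟩ e
    have e' : a * b = a' * b' := congrArg Subtype.val e
    have h1 : a'⁻¹ * a = b' * b⁻¹ := by
      rw [eq_mul_inv_iff_mul_eq, mul_assoc, e', inv_mul_cancel_left]
    set c := a'⁻¹ * a
    have hc1 := h.mem_K.1 (mul_mem (inv_mem ha') ha : c ∈ K v τ)
    have hc2 := h.mem_K_y.1 (h1 ▸ mul_mem hb' (inv_mem hb) : c ∈ K v (v * τ))
    have hcc : c * c = 1 := by
      have := hc1.2.symm.trans hc2.2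
      exact eq_inv_iff_mul_eq_one.1 this
    have hc : c = 1 := by
      by_contra hne
      have h2 := Involution.orderOf_of_sq hcc hne
      have := (h.mem_O.1 hc1.1).2
      rw [h2] at this
      exact absurd this (by decide)
    have ea : a = a' := (inv_mul_eq_one.1 hc).symm
    subst ea
    simp [mul_left_cancel e']
  · rintro ⟨k, hk⟩
    obtain ⟨m, hm⟩ := h.odd_O
    have hkc : k ^ (m + 1) * k ^ (m + 1) = k := by
      have h1 : k ^ Nat.card (Oz v) = 1 := by
        have h2 : (⟨k, hk⟩ : Oz v) ^ Nat.card (Oz v) = 1 := pow_card_eq_one'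
        exact congrArg Subtype.val h2
      rw [← pow_add, show m + 1 + (m + 1) = (2 * m + 1) + 1 by omega, ← hm, pow_succ, h1, one_mul]
    set r := k ^ (m + 1) with hr
    have hrO : r ∈ Oz v := pow_mem hk _
    set r' := τ * r * τ with hr'
    have hr'O : r' ∈ Oz v := h.τ_conj_mem hrO
    have hconj : ∀ a b : G, τ * (a * b) * τ = (τ * a * τ) * (τ * b * τ) := fun a b => by
      rw [show (τ * a * τ) * (τ * b * τ) = τ * a * (τ * τ) * b * τ by group, h.τ_sq, mul_one,
        mul_assoc τ a b]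
    have hback : τ * r' * τ = r := by
      rw [hr', show τ * (τ * r * τ) * τ = (τ * τ) * r * (τ * τ) by group, h.τ_sq, one_mul, mul_one]
    have hinv : ∀ a : G, τ * a⁻¹ * τ = (τ * a * τ)⁻¹ := fun a => by
      rw [mul_inv_rev, mul_inv_rev, h.τ_inv, mul_assoc]
    refine ⟨⟨⟨r * r', h.mem_K.2 ⟨mul_mem hrO hr'O, ?_⟩⟩,
      ⟨r * r'⁻¹, h.mem_K_y.2 ⟨mul_mem hrO (inv_mem hr'O), ?_⟩⟩⟩, Subtype.ext ?_⟩
    · rw [hconj, hback, ← hr', h.commute_OO hr'O hrO]
    · rw [hconj, hinv, hback, ← hr', mul_inv_rev, inv_inv]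
    · show r * r' * (r * r'⁻¹) = k
      rw [h.commute_OO hrO hr'O, mul_assoc, ← mul_assoc r, hkc,
        h.commute_OO hk (inv_mem hr'O), mul_inv_cancel_left]

end Hyp

end Cfsg.Agent.CentFour
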